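import Groth.Agent.DRing.Tel
import Groth.Agent.DRing.Homology

/-!
# The telescope on complexes of modules
-/

universe u

open CategoryTheory CategoryTheory.Limits

namespace Groth.Agent.ProEtDCLib

open Groth.Agent.DRing Groth.Agent.DRing.Homology

variable {Λ : Type u} [CommRing Λ] (f : Λ)

/-- The kernel complex of the telescope is acyclic. -/
def KerAcyclic (M : CochainComplex (ModuleCat.{u} Λ) ℤ) : Prop :=
  ∀ (n : ℤ) (x : ℕ → M.X n), (∀ k, x k = f • x (k + 1)) → (∀ k, IsCyc M n (x k)) →
    ∃ w : ℕ → M.X (n - 1), (∀ k, w k = f • w (k + 1)) ∧ ∀ k, (M.d (n - 1) n).hom (w k) = x k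

variable {f}

theorem kerAcyclic_iff (M : CochainComplex (ModuleCat.{u} Λ) ℤ)
    (hs : ∀ n, Function.Surjective (Tel.D f (M.X n))) :
    KerAcyclic f M ↔ ∀ n, Tel.Tel (M.homology n) f := by
  constructor
  · intro h n
    refine Tel.tel_iff.2 ⟨fun ξ hξ => ?_, fun m => ?_⟩
    · choose x hx hxe using fun k => cls_surjective (ξ k)
      have hd : ∀ k, ∃ v, (M.d (n - 1) n).hom v = x k - f • x (k + 1) := fun k =>
        (cls_eq_iff (n - 1) (by omega) (hx k) ((hx (k + 1)).smul f)).1
          (by rw [cls_smul (hx (k + 1)), hxe, hxe, ← hξ k])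
      choose v hv using hd
      obtain ⟨v', hv'⟩ := hs (n - 1) v
      let x' : ℕ → M.X n := fun k => x k - (M.d (n - 1) n).hom (v' k)
      obtain ⟨w, -, hw⟩ := h n x' (fun k => by
          have := hv k
          rw [← congrFun hv' k, Tel.D_apply, map_sub, map_smul] at this
          simp only [x', smul_sub]
          rw [← sub_eq_zero] at this ⊢
          calc x k - (M.d (n - 1) n).hom (v' k) - (f • x (k + 1) - f • (M.d (n - 1) n).hom (v' (k + 1)))
              = -((M.d (n - 1) n).hom (v' k) - f • (M.d (n - 1) n).hom (v' (k + 1)) -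
                  (x k - f • x (k + 1))) := by abel
            _ = 0 := by rw [this, neg_zero])
        fun k => (hx k).sub (isCyc_d _ _ _)
      funext k
      rw [← hxe k]
      refine (cls_eq_zero_iff (n - 1) (by omega) (hx k)).2 ⟨w k + v' k, ?_⟩
      rw [map_add, hw k]
      exact sub_add_cancel _ _
    · choose y hy hye using fun k => cls_surjective (m k)
      obtain ⟨v, hv⟩ := hs n y
      obtain ⟨w, hw1, hw2⟩ := h (n + 1) (fun k => (M.d n (n + 1)).hom (v k)) (fun k => by
          have := hy k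
          unfold IsCyc at this
          rw [← congrFun hv k, Tel.D_apply, map_sub, map_smul, sub_eq_zero] at this
          exact this)
        fun k => isCyc_d _ _ _
      have e : n + 1 - 1 = n := by omega
      let w' : ℕ → M.X n := fun k => (M.XIsoOfEq e).hom.hom (w k)
      have hw' : ∀ k, (M.d n (n + 1)).hom (w' k) = (M.d n (n + 1)).hom (v k) := fun k => by
        refine Eq.trans ?_ (hw2 k)
        exact congrArg (fun g => g.hom (w k)) (M.XIsoOfEq_hom_comp_d e (n + 1))
      have hc : ∀ k, IsCyc M n (v k - w' k) := fun k => by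
        unfold IsCyc; rw [map_sub, hw', sub_self]
      refine ⟨fun k => cls _ (hc k), fun k => ?_⟩
      show cls (v k - w' k) (hc k) - f • cls (v (k + 1) - w' (k + 1)) (hc (k + 1)) = m k
      rw [← cls_smul, ← cls_sub, ← hye k]
      have hz : v k - w' k - f • (v (k + 1) - w' (k + 1)) = y k := by
        have h1 : w' k = f • w' (k + 1) := by simp only [w']; rw [← map_smul, ← hw1]
        rw [← congrFun hv k, Tel.D_apply, smul_sub, h1]
        abel
      congr 1
  · intro h n x hx hc
    have h0 := (Tel.tel_iff.1 (h n)).1 (fun k => cls (x k) (hc k)) fun k => by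
      rw [← cls_smul]
      congr 1
      exact hx k
    choose w hw using fun k => (cls_eq_zero_iff (n - 1) (by omega) (hc k)).1 (congrFun h0 k)
    have hD : ∀ k, IsCyc M (n - 1) (w k - f • w (k + 1)) := fun k => by
      refine (isCyc_iff (show n - 1 + 1 = n by omega) _).2 ?_
      rw [map_sub, map_smul, hw, hw, ← hx k, sub_self]
    obtain ⟨ζ, hζ⟩ := (Tel.tel_iff.1 (h (n - 1))).2 fun k => cls _ (hD k)
    choose z hz hze using fun k => cls_surjective (ζ k)
    have hd : ∀ k, ∃ v, (M.d (n - 1 - 1) (n - 1)).hom v =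
        (z k - f • z (k + 1)) - (w k - f • w (k + 1)) := fun k =>
      (cls_eq_iff (n - 1 - 1) (by omega) ((hz k).sub ((hz (k + 1)).smul f)) (hD k)).1
        (by rw [cls_sub (hz k) ((hz (k + 1)).smul f), cls_smul (hz (k + 1)), hze, hze]; exact hζ k)
    choose v hv using hd
    obtain ⟨v', hv'⟩ := hs (n - 1 - 1) v
    let dv : ℕ → M.X (n - 1) := fun k => (M.d (n - 1 - 1) (n - 1)).hom (v' k)
    have hdv : ∀ k, dv k - f • dv (k + 1) = (z k - f • z (k + 1)) - (w k - f • w (k + 1)) := fun k => by
      refine Eq.trans ?_ (hv k)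
      rw [← congrFun hv' k, Tel.D_apply, map_sub, map_smul]
    refine ⟨fun k => w k - z k + dv k, fun k => ?_, fun k => ?_⟩
    · rw [← sub_eq_zero]
      calc w k - z k + dv k - f • (w (k + 1) - z (k + 1) + dv (k + 1))
          = (dv k - f • dv (k + 1)) + ((w k - f • w (k + 1)) - (z k - f • z (k + 1))) := by
            rw [smul_add, smul_sub]; abel
        _ = 0 := by rw [hdv]; abel
    · have h2 : (M.d (n - 1) n).hom (z k) = 0 :=
        (isCyc_iff (show n - 1 + 1 = n by omega) _).1 (hz k)
      rw [map_add, map_sub, hw, h2, sub_zero, d_d, add_zero]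

/-- A map of complexes which degreewise is the telescope map of `M`. -/
theorem bijective_homologyMap_iff (M : CochainComplex (ModuleCat.{u} Λ) ℤ)
    {P : CochainComplex (ModuleCat.{u} Λ) ℤ} (s : P ⟶ P) (e : ∀ n, P.X n ≃ₗ[Λ] (ℕ → M.X n))
    (he : ∀ i j x k, e j ((P.d i j).hom x) k = (M.d i j).hom (e i x k))
    (hs : ∀ n x, e n ((s.f n).hom x) = Tel.D f (M.X n) (e n x)) (n : ℤ) :
    Function.Bijective (HomologicalComplex.homologyMap s n).hom ↔ Tel.Tel (M.homology n) f := by
  have hcyc : ∀ (i : ℤ) (z : P.X i), IsCyc P i z ↔ ∀ k, IsCyc M i (e i z k) := fun i z => by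
    unfold IsCyc
    refine ⟨fun h k => ?_, fun h => (e (i + 1)).injective (funext fun k => ?_)⟩
    · rw [← he, h, map_zero, Pi.zero_apply]
    · rw [he, h k, map_zero, Pi.zero_apply]
  rw [Tel.tel_iff, Function.Bijective, homologyMap_injective_iff s n (n - 1) (by omega),
    homologyMap_surjective_iff s n (n - 1) (by omega)]
  refine and_congr ⟨fun h ξ hξ => ?_, fun h z w hz hzw => ?_⟩ ⟨fun h m => ?_, fun h y hy => ?_⟩
  · choose x hx hxe using fun k => cls_surjective (ξ k)
    choose v hv using fun k => (cls_eq_iff (n - 1) (by omega) (hx k) ((hx (k + 1)).smul f)).1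
      (by rw [cls_smul (hx (k + 1)), hxe, hxe, ← hξ k])
    obtain ⟨e', he'⟩ := h ((e n).symm x) ((e (n - 1)).symm v)
      ((hcyc n _).2 (by simpa using hx)) ((e n).injective (funext fun k => by
        rw [hs, Tel.D_apply, LinearEquiv.apply_symm_apply, he, LinearEquiv.apply_symm_apply, hv]))
    funext k
    rw [← hxe k]
    refine (cls_eq_zero_iff (n - 1) (by omega) (hx k)).2 ⟨e (n - 1) e' k, ?_⟩
    rw [← he, he', LinearEquiv.apply_symm_apply]
  · have h0 := h (fun k => cls _ ((hcyc n z).1 hz k)) fun k => by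
      rw [← cls_smul, cls_eq_iff (n - 1) (by omega)]
      refine ⟨e (n - 1) w k, ?_⟩
      rw [← he, ← hzw, hs, Tel.D_apply]
    choose v hv using fun k => (cls_eq_zero_iff (n - 1) (by omega) ((hcyc n z).1 hz k)).1 (congrFun h0 k)
    exact ⟨(e (n - 1)).symm v, (e n).injective (funext fun k => by
      rw [he, LinearEquiv.apply_symm_apply, hv])⟩
  · choose y hy hye using fun k => cls_surjective (m k)
    obtain ⟨x, w, hx, hxw⟩ := h ((e n).symm y) ((hcyc n _).2 (by simpa using hy))
    have hx' := (hcyc n x).1 hx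
    refine ⟨fun k => cls _ (hx' k), fun k => ?_⟩
    rw [← cls_smul, ← cls_sub, ← hye k, cls_eq_iff (n - 1) (by omega)]
    refine ⟨-(e (n - 1) w k), ?_⟩
    have := congrFun (congrArg (e n) hxw) k
    rw [map_add, Pi.add_apply, hs, Tel.D_apply, he, LinearEquiv.apply_symm_apply] at this
    rw [map_neg, ← this]
    abel
  · obtain ⟨ξ, hξ⟩ := h fun k => cls _ ((hcyc n y).1 hy k)
    choose x hx hxe using fun k => cls_surjective (ξ k)
    choose v hv using fun k => (cls_eq_iff (n - 1) (by omega) ((hcyc n y).1 hy k)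
      ((hx k).sub ((hx (k + 1)).smul f))).1 (by rw [cls_sub (hx k) ((hx (k + 1)).smul f), cls_smul (hx (k + 1)), hxe, hxe, hξ k])
    refine ⟨(e n).symm x, (e (n - 1)).symm v, (hcyc n _).2 (by simpa using hx),
      (e n).injective (funext fun k => ?_)⟩
    rw [map_add, Pi.add_apply, hs, Tel.D_apply, he, LinearEquiv.apply_symm_apply,
      LinearEquiv.apply_symm_apply, hv]
    abel

end Groth.Agent.ProEtDCLib
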