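import Mathlib.Algebra.Homology.DerivedCategory.KInjective
import Mathlib.Algebra.Homology.DerivedCategory.Ext.Basic
import Mathlib.Algebra.Homology.DerivedCategory.TStructure
import Mathlib.Algebra.Homology.HomotopyCategory.HomComplexSingle

/-!
# Maps from single objects into K-injective complexes in the derived category
-/

universe w v u

open CategoryTheory CategoryTheory.Limits CochainComplex CochainComplex.HomComplex

namespace Groth.Agent.ProEtDCLib

variable {A : Type u} [Category.{v} A] [Abelian A]

attribute [local instance] HasDerivedCategory.standard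

theorem subsingleton_single_hom_iff (X : A) (L : CochainComplex A ℤ) [L.IsKInjective] (n : ℤ) :
    Subsingleton ((DerivedCategory.singleFunctor A 0).obj X ⟶ (DerivedCategory.Q.obj L)⟦n⟧) ↔
      ∀ φ : X ⟶ L.X n, φ ≫ L.d n (n + 1) = 0 → ∃ ψ : X ⟶ L.X (n - 1), ψ ≫ L.d (n - 1) n = φ := by
  let S := (CochainComplex.singleFunctor A 0).obj X
  let e : (DerivedCategory.Qh.obj ((HomotopyCategory.quotient _ _).obj S) ⟶
      DerivedCategory.Qh.obj ((HomotopyCategory.quotient _ _).obj (L⟦n⟧))) ≃
      ((DerivedCategory.singleFunctor A 0).obj X ⟶ (DerivedCategory.Q.obj L)⟦n⟧) :=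
    Iso.homCongr ((DerivedCategory.quotientCompQhIso A).app S)
      ((DerivedCategory.quotientCompQhIso A).app (L⟦n⟧) ≪≫
        (DerivedCategory.Q.commShiftIso n).app L)
  have hb : Function.Bijective (fun x : CohomologyClass S L n =>
      e (DerivedCategory.Qh.map (CohomologyClass.toHom x))) :=
    e.bijective.comp ((CochainComplex.IsKInjective.Qh_map_bijective _ _).comp
      (CohomologyClass.toHom_bijective S L n))
  rw [← (Equiv.ofBijective _ hb).subsingleton_congr]
  constructor
  · intro h φ hφ
    have h0 := Subsingleton.elim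
      (CohomologyClass.mk (Cocycle.fromSingleMk φ (zero_add n) (n + 1) rfl hφ)) 0
    rw [CohomologyClass.mk_eq_zero_iff,
      Cocycle.fromSingleMk_mem_coboundaries_iff _ _ _ _ hφ (n - 1) (by omega)] at h0
    exact h0
  · intro h
    refine subsingleton_of_forall_eq 0 fun x => ?_
    obtain ⟨α, rfl⟩ := x.mk_surjective
    obtain ⟨φ, hφ, rfl⟩ := Cocycle.fromSingleMk_surjective α n (zero_add n) (n + 1) rfl
    rw [CohomologyClass.mk_eq_zero_iff,
      Cocycle.fromSingleMk_mem_coboundaries_iff _ _ _ _ hφ (n - 1) (by omega)]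
    exact h φ hφ

/-- No maps in negative degrees between objects of the heart. -/
theorem subsingleton_single_hom_neg (X Y : A) (n : ℤ) (hn : n < 0) :
    Subsingleton ((DerivedCategory.singleFunctor A 0).obj X ⟶
      ((DerivedCategory.singleFunctor A 0).obj Y)⟦n⟧) := by
  suffices Subsingleton (DerivedCategory.Q.obj ((CochainComplex.singleFunctor A 0).obj X) ⟶
      DerivedCategory.Q.obj (((CochainComplex.singleFunctor A 0).obj Y)⟦n⟧)) from
    (Iso.homCongr (Iso.refl ((DerivedCategory.singleFunctor A 0).obj X))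
      ((DerivedCategory.Q.commShiftIso n).app
        ((CochainComplex.singleFunctor A 0).obj Y))).subsingleton_congr.1 this
  have : (((CochainComplex.singleFunctor A 0).obj Y)⟦n⟧).IsStrictlyGE (-n) :=
    CochainComplex.isStrictlyGE_shift _ 0 _ _ (by lia)
  exact DerivedCategory.subsingleton_hom_of_isStrictlyLE_of_isStrictlyGE _ _ 0 (-n) (by lia)

theorem subsingleton_ext_iff [HasExt.{w} A] (X Y : A) :
    (∀ n : ℕ, Subsingleton (Abelian.Ext.{w} X Y n)) ↔
      ∀ n : ℤ, Subsingleton ((DerivedCategory.singleFunctor A 0).obj X ⟶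
        ((DerivedCategory.singleFunctor A 0).obj Y)⟦n⟧) := by
  constructor
  · intro h n
    rcases lt_or_ge n 0 with hn | hn
    · exact subsingleton_single_hom_neg X Y n hn
    · obtain ⟨m, rfl⟩ := Int.eq_ofNat_of_zero_le hn
      exact (Abelian.Ext.homEquiv (X := X) (Y := Y) (n := m)).subsingleton_congr.1 (h m)
  · exact fun h n => (Abelian.Ext.homEquiv (X := X) (Y := Y) (n := n)).subsingleton_congr.2 (h n)

end Groth.Agent.ProEtDCLib
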