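import Groth.Agent.ProEtDCLib.Loc
import Groth.Agent.ProEtDCLib.Single
import Groth.Agent.ProEtDCLib.Complex
import Groth.Agent.DHA.KInjectiveResolution
import Mathlib.Algebra.Category.ModuleCat.Products
import Mathlib.Algebra.Homology.DerivedCategory.FullyFaithful
import Mathlib.CategoryTheory.Linear.FunctorCategory

/-!
# Derived completeness is telescope completeness of cohomology sheaves on weakly contractibles
-/

universe u

open CategoryTheory CategoryTheory.Limits AlgebraicGeometry Opposite ProEtDC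

namespace Groth.Agent.ProEtDCLib

open Groth.Agent Groth.Agent.EtModWLib

variable {Λ : Type (u + 1)} [CommRing Λ] {X : Scheme.{u}} (L : CochainComplex (EtModW.ModP Λ X) ℤ)

/-- The product of countably many copies of a complex. -/
noncomputable def piC : CochainComplex (EtModW.ModP Λ X) ℤ where
  X n := ∏ᶜ fun _ : ℕ => L.X n
  d i j := Limits.Pi.map fun _ => L.d i j
  shape i j h := Pi.hom_ext _ _ fun k => by simp [L.shape i j h]
  d_comp_d' i j k _ _ := Pi.hom_ext _ _ fun m => by simp

/-- The projection to a factor. -/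
noncomputable def piProj (k : ℕ) : piC L ⟶ L where
  f n := Pi.π (fun _ : ℕ => L.X n) k
  comm' i j _ := by simp [piC]

variable {L} in
/-- Maps into the product complex. -/
noncomputable def piLift {K : CochainComplex (EtModW.ModP Λ X) ℤ} (g : ℕ → (K ⟶ L)) : K ⟶ piC L where
  f n := Pi.lift fun k => (g k).f n
  comm' i j _ := Pi.hom_ext _ _ fun k => by simp [piC, (g k).comm]

instance isKInjective_piC [L.IsKInjective] : (piC L).IsKInjective where
  nonempty_homotopy_zero {K} f hK := by
    let h := fun k => CochainComplex.IsKInjective.homotopyZero (f ≫ piProj L k) hK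
    refine ⟨{ hom := fun i j => Pi.lift fun k => (h k).hom i j
              zero := fun i j hij => Pi.hom_ext _ _ fun k => by
                exact ((Pi.lift_π (fun k => (h k).hom i j) k).trans ((h k).zero i j hij)).trans zero_comp.symm
              comm := fun i => Pi.hom_ext _ _ fun k => ?_ }⟩
    have e := (h k).comm i
    rw [HomologicalComplex.comp_f] at e
    refine e.trans ?_
    simp only [dNext, prevD, AddMonoidHom.mk'_apply, HomologicalComplex.zero_f, add_zero]
    symm
    refine (Preadditive.add_comp ..).trans ?_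
    refine congrArg₂ (· + ·) ?_ ?_
    · exact (Category.assoc ..).trans (congrArg _ (Pi.lift_π (fun k => (h k).hom _ i) k))
    · refine (Category.assoc ..).trans ((congrArg _ (Pi.map_π (fun _ : ℕ => L.d _ i) k)).trans ?_)
      exact (Category.assoc ..).symm.trans (congrArg (· ≫ _) (Pi.lift_π (fun k => (h k).hom i _) k))

/-- The telescope on the product complex. -/
noncomputable def piD (f : Λ) : piC L ⟶ piC L :=
  piLift fun k => piProj L k - f • piProj L (k + 1)

theorem sectMap_comp (U : X.ProEt) {F G H : EtModW.ModP Λ X} (g : F ⟶ G) (h : G ⟶ H)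
    (x : (sectFun Λ U).obj F) :
    (sectFun Λ U).map h ((sectFun Λ U).map g x) = (sectFun Λ U).map (g ≫ h) x := rfl

/-- Sections of the product complex. -/
noncomputable def piEquiv (U : X.ProEt) (n : ℤ) :
    ((sectFun Λ U).obj ((piC L).X n)) ≃ₗ[Λ] (ℕ → (sectFun Λ U).obj (L.X n)) :=
  (PreservesProduct.iso (sectFun Λ U) (fun _ : ℕ => L.X n) ≪≫
    ModuleCat.piIsoPi _).toLinearEquiv

theorem piEquiv_apply (U : X.ProEt) (n : ℤ) (z : (sectFun Λ U).obj ((piC L).X n)) (k : ℕ) :
    piEquiv L U n z k = (sectFun Λ U).map (Pi.π (fun _ : ℕ => L.X n) k) z := by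
  have h1 := congrArg (fun φ => φ ((PreservesProduct.iso (sectFun Λ U) (fun _ : ℕ => L.X n)).hom z))
    (ModuleCat.piIsoPi_hom_ker_subtype (fun _ : ℕ => (sectFun Λ U).obj (L.X n)) k)
  refine h1.trans ?_
  exact congrArg (fun φ => φ z) (piComparison_comp_π (sectFun Λ U) (fun _ : ℕ => L.X n) k)

theorem piEquiv_d (U : X.ProEt) (i j : ℤ) (x : (sectFun Λ U).obj ((piC L).X i)) (k : ℕ) :
    piEquiv L U j ((sectFun Λ U).map ((piC L).d i j) x) k =
      (sectFun Λ U).map (L.d i j) (piEquiv L U i x k) := by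
  rw [piEquiv_apply, piEquiv_apply]
  refine (sectMap_comp U _ _ x).trans (Eq.trans ?_ (sectMap_comp U _ _ x).symm)
  exact congrArg (fun φ => (sectFun Λ U).map φ x) (Pi.map_π (fun _ : ℕ => L.d i j) k)

theorem piEquiv_D (f : Λ) (U : X.ProEt) (n : ℤ) (x : (sectFun Λ U).obj ((piC L).X n)) :
    piEquiv L U n ((sectFun Λ U).map ((piD L f).f n) x) =
      DRing.Tel.D f _ (piEquiv L U n x) := by
  funext k
  rw [DRing.Tel.D_apply, piEquiv_apply, piEquiv_apply, piEquiv_apply]
  refine (sectMap_comp U ((piD L f).f n) _ x).trans ?_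
  refine Eq.trans (congrArg (fun φ => (sectFun Λ U).map φ x)
    (show (piD L f).f n ≫ Pi.π _ k = Pi.π (fun _ : ℕ => L.X n) k - f • Pi.π (fun _ : ℕ => L.X n) (k + 1) by
      exact Pi.lift_π (fun k => Pi.π (fun _ : ℕ => L.X n) k - f • Pi.π (fun _ : ℕ => L.X n) (k + 1)) k)) ?_
  rfl

/-- The complex of sections. -/
noncomputable abbrev sectCx (U : X.ProEt) (K : CochainComplex (EtModW.ModP Λ X) ℤ) :
    CochainComplex (ModuleCat.{u + 1} Λ) ℤ :=
  ((sectFun Λ U).mapHomologicalComplex _).obj K

theorem bijective_piD_iff (f : Λ) (U : X.ProEt) (n : ℤ) :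
    Function.Bijective (HomologicalComplex.homologyMap
      (((sectFun Λ U).mapHomologicalComplex _).map (piD L f)) n).hom ↔
      DRing.Tel.Tel ((sectCx U L).homology n) f :=
  bijective_homologyMap_iff (sectCx U L) _ (piEquiv L U) (piEquiv_d L U) (fun n x => piEquiv_D L f U n x) n

/-- Cohomology of sections over weakly contractible objects. -/
noncomputable def sectHomologyIso (W : X.ProEt) (hW : _root_.ProEtS.IsWC W) (n : ℤ) :
    (sectCx W L).homology n ≅ (sectFun Λ W).obj (L.homology n) :=
  have := preservesHomology_sectFun (Λ := Λ) W hW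
  (L.sc n).mapHomologyIso (sectFun Λ W)

theorem quasiIso_piD [L.IsKInjective] (f : Λ)
    (h : ∀ (W : X.ProEt), _root_.ProEtS.IsWC W → ∀ p : ℤ,
      DRing.Tel.Tel ((sectFun Λ W).obj (L.homology p)) f) : QuasiIso (piD L f) := by
  rw [quasiIso_iff]
  intro n
  rw [quasiIsoAt_iff_isIso_homologyMap]
  refine isIso_of_wc _ fun W hW => ?_
  have := preservesHomology_sectFun (Λ := Λ) W hW
  have hb : IsIso (HomologicalComplex.homologyMap
      (((sectFun Λ W).mapHomologicalComplex _).map (piD L f)) n) :=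
    (DRing.Homology.isIso_homologyMap_iff _ _).2 ((bijective_piD_iff L f W n).2
      (DRing.Tel.tel_congr (sectHomologyIso L W hW n).symm.toLinearEquiv (h W hW n)))
  have hnat := ShortComplex.mapHomologyIso_hom_naturality
    ((HomologicalComplex.shortComplexFunctor _ _ n).map (piD L f)) (sectFun Λ W)
  have : IsIso ((sectFun Λ W).map (HomologicalComplex.homologyMap (piD L f) n)) := by
    rw [show (sectFun Λ W).map (HomologicalComplex.homologyMap (piD L f) n) =
      (((piC L).sc n).mapHomologyIso (sectFun Λ W)).inv ≫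
        HomologicalComplex.homologyMap (((sectFun Λ W).mapHomologicalComplex _).map (piD L f)) n ≫
        (((piC L).sc n).mapHomologyIso (sectFun Λ W)).hom from ((Iso.inv_comp_eq _).2 hnat).symm]
    exact ((((piC L).sc n).mapHomologyIso (sectFun Λ W)).symm ≪≫ @asIso _ _ _ _ _ hb ≪≫
      ((piC L).sc n).mapHomologyIso (sectFun Λ W)).isIso_hom
  exact ConcreteCategory.bijective_of_isIso ((sectFun Λ W).map (HomologicalComplex.homologyMap (piD L f) n))

theorem seqOf_zero {U : X.ProEt} {f : Λ} {F : EtModW.ModP Λ X} (k : ℕ) :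
    seqOf (0 : locExt Λ U f ⟶ F) k = 0 := by
  rw [show (0 : locExt Λ U f ⟶ F) = (0 : locExt Λ U f ⟶ F) ≫ (0 : F ⟶ F) from comp_zero.symm,
    seqOf_comp]
  rfl

/-- Telescope completeness of cohomology on weakly contractibles passes to all objects. -/
theorem tel_sectCx_of_wc [L.IsKInjective] (f : Λ)
    (h : ∀ (W : X.ProEt), _root_.ProEtS.IsWC W → ∀ p : ℤ,
      DRing.Tel.Tel ((sectFun Λ W).obj (L.homology p)) f) (U : X.ProEt) (n : ℤ) :
    DRing.Tel.Tel ((sectCx U L).homology n) f := by
  have := quasiIso_piD L f h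
  obtain ⟨e, he⟩ := (CochainComplex.IsKInjective.quasiIso_iff (piD L f)).1 inferInstance
  have : QuasiIso (((sectFun Λ U).mapHomologicalComplex _).map (piD L f)) :=
    homotopyEquivalences_le_quasiIso _ _ _ ⟨(sectFun Λ U).mapHomotopyEquiv e, by
      rw [← he]; rfl⟩
  exact (bijective_piD_iff L f U n).1 ((DRing.Homology.isIso_homologyMap_iff _ _).1 inferInstance)

/-- Maps out of `locExt U f` vanish iff the sections are telescope complete. -/
theorem forall_subsingleton_iff [L.IsKInjective] [∀ n, Injective (L.X n)] (f : Λ) (U : X.ProEt) :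
    (∀ n : ℤ, letI := HasDerivedCategory.standard (EtModW.ModP Λ X)
      Subsingleton ((DerivedCategory.singleFunctor (EtModW.ModP Λ X) 0).obj (locExt Λ U f) ⟶
        (DerivedCategory.Q.obj L)⟦n⟧)) ↔ ∀ n, DRing.Tel.Tel ((sectCx U L).homology n) f := by
  let := HasDerivedCategory.standard (EtModW.ModP Λ X)
  rw [← kerAcyclic_iff (sectCx U L) fun n => surjective_D_sect f U (L.X n)]
  simp only [subsingleton_single_hom_iff]
  constructor
  · intro h n x hx hc
    obtain ⟨φ, hφ⟩ := exists_seqOf (U := U) (f := f) (F := L.X n) x hx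
    obtain ⟨ψ, hψ⟩ := h n φ (seqOf_injective (funext fun k => by
      rw [seqOf_comp, hφ, seqOf_zero]
      exact hc k))
    exact ⟨seqOf ψ, seqOf_rel ψ, fun k => by rw [← hφ k, ← hψ, seqOf_comp]; rfl⟩
  · intro h n φ hφ
    obtain ⟨w, hw1, hw2⟩ := h n (seqOf φ) (seqOf_rel φ) fun k => by
      show (sectFun Λ U).map (L.d n (n + 1)) (seqOf φ k) = 0
      rw [← seqOf_comp, hφ, seqOf_zero]
    obtain ⟨ψ, hψ⟩ := exists_seqOf (U := U) (f := f) (F := L.X (n - 1)) w hw1
    refine ⟨ψ, seqOf_injective (funext fun k => ?_)⟩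
    rw [seqOf_comp, hψ]
    exact hw2 k

end Groth.Agent.ProEtDCLib
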