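import Groth.Agent.DRing.Tel
import Mathlib.Algebra.Category.ModuleCat.Abelian
import Mathlib.Algebra.Homology.ShortComplex.ModuleCat
import Mathlib.Algebra.Homology.DerivedCategory.Ext.ExactSequences
import Mathlib.Algebra.Homology.DerivedCategory.Ext.Linear
import Mathlib.CategoryTheory.Linear.LinearFunctor
import Mathlib.RingTheory.Noetherian.Basic

/-!
# Devissage: comparing two functors on finite modules by maps into a complete object
-/

universe w v u r

open CategoryTheory CategoryTheory.Limits CategoryTheory.Abelian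

namespace Groth.Agent.ProEtDCLib.Devis

open Groth.Agent.DRing

variable {Λ : Type r} [CommRing Λ] {A : Type u} [Category.{v} A] [Abelian A] [Linear Λ A]
  [HasExt.{w} A]
variable {c Φ : ModuleCat.{r} Λ ⥤ A} (η : c ⟶ Φ) (F : A)

/-- Precomposition in Ext, as a linear map. -/
noncomputable def pre {X Y : A} (g : X ⟶ Y) (n : ℕ) : Ext Y F n →ₗ[Λ] Ext X F n where
  toFun x := (Ext.mk₀ g).comp x (zero_add n)
  map_add' := by simp
  map_smul' := by simp

theorem pre_apply {X Y : A} (g : X ⟶ Y) (n : ℕ) (x : Ext Y F n) :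
    pre (Λ := Λ) F g n x = (Ext.mk₀ g).comp x (zero_add n) := rfl

theorem pre_pre {X Y Z : A} (g : X ⟶ Y) (h : Y ⟶ Z) (n : ℕ) (x : Ext Z F n) :
    pre (Λ := Λ) F g n (pre (Λ := Λ) F h n x) = pre (Λ := Λ) F (g ≫ h) n x := by
  simp [pre_apply]

/-- Maps out of `Φ M` are maps out of `c M`. -/
def B (M : ModuleCat.{r} Λ) : Prop := ∀ n : ℕ, Function.Bijective (pre (Λ := Λ) F (η.app M) n)

variable {η F}

section Triangle

variable [c.PreservesZeroMorphisms] [Φ.PreservesZeroMorphisms]

/-- The map of short complexes. -/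
noncomputable def mapNat (S : ShortComplex (ModuleCat.{r} Λ)) : S.map c ⟶ S.map Φ where
  τ₁ := η.app S.X₁
  τ₂ := η.app S.X₂
  τ₃ := η.app S.X₃
  comm₁₂ := (η.naturality S.f).symm
  comm₂₃ := (η.naturality S.g).symm

theorem pre_natural {M N : ModuleCat.{r} Λ} (g : M ⟶ N) (n : ℕ) (x : Ext (Φ.obj N) F n) :
    pre (Λ := Λ) F (c.map g) n (pre (Λ := Λ) F (η.app N) n x) =
      pre (Λ := Λ) F (η.app M) n (pre (Λ := Λ) F (Φ.map g) n x) := by
  rw [pre_pre, pre_pre, η.naturality]

section Seq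

variable {G : ModuleCat.{r} Λ ⥤ A} [G.PreservesZeroMorphisms] {S : ShortComplex (ModuleCat.{r} Λ)}
  (hG : (S.map G).ShortExact)

/-- The connecting map. -/
noncomputable def δ {n m : ℕ} (h : 1 + n = m) :
    Ext (G.obj S.X₁) F n →ₗ[Λ] Ext (G.obj S.X₃) F m where
  toFun x := hG.extClass.comp x h
  map_add' x y := Ext.comp_add _ _ _ _
  map_smul' t x := Ext.comp_smul _ _ _ _

theorem δ_f {n m : ℕ} (h : 1 + n = m) (x : Ext (G.obj S.X₂) F n) :
    δ hG h (pre (Λ := Λ) F (G.map S.f) n x) = 0 :=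
  hG.extClass_comp_assoc x (h := h)

theorem g_δ {n m : ℕ} (h : 1 + n = m) (x : Ext (G.obj S.X₁) F n) :
    pre (Λ := Λ) F (G.map S.g) m (δ hG h x) = 0 :=
  hG.comp_extClass_assoc x h

theorem exact₁ {n m : ℕ} (h : 1 + n = m) (x : Ext (G.obj S.X₁) F n) (hx : δ hG h x = 0) :
    ∃ y : Ext (G.obj S.X₂) F n, pre (Λ := Λ) F (G.map S.f) n y = x :=
  Ext.contravariant_sequence_exact₁ hG F x h hx

include hG in
theorem exact₂ {n : ℕ} (x : Ext (G.obj S.X₂) F n) (hx : pre (Λ := Λ) F (G.map S.f) n x = 0) :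
    ∃ y : Ext (G.obj S.X₃) F n, pre (Λ := Λ) F (G.map S.g) n y = x :=
  Ext.contravariant_sequence_exact₂ hG F x hx

theorem exact₃ {n m : ℕ} (h : 1 + n = m) (x : Ext (G.obj S.X₃) F m)
    (hx : pre (Λ := Λ) F (G.map S.g) m x = 0) :
    ∃ y : Ext (G.obj S.X₁) F n, δ hG h y = x :=
  Ext.contravariant_sequence_exact₃ hG F x hx h

include hG in
theorem g_injective_zero (x : Ext (G.obj S.X₃) F 0) (hx : pre (Λ := Λ) F (G.map S.g) 0 x = 0) : x = 0 :=
  have : Epi (G.map S.g) := hG.epi_g
  (injective_iff_map_eq_zero _).1 (Ext.precomp_mk₀_injective_of_epi F (G.map S.g)) x hx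

end Seq

variable (S : ShortComplex (ModuleCat.{r} Λ)) (hc : (S.map c).ShortExact) (hΦ : (S.map Φ).ShortExact)

theorem delta_natural {n m : ℕ} (h : 1 + n = m) (x : Ext (Φ.obj S.X₁) F n) :
    δ hc h (pre (Λ := Λ) F (η.app S.X₁) n x) =
      pre (Λ := Λ) F (η.app S.X₃) m (δ hΦ h x) := by
  show hc.extClass.comp ((Ext.mk₀ (mapNat (η := η) S).τ₁).comp (show Ext (S.map Φ).X₁ F n from x) (zero_add n)) h =
    (Ext.mk₀ (mapNat (η := η) S).τ₃).comp (hΦ.extClass.comp (show Ext (S.map Φ).X₁ F n from x) h) (zero_add m)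
  rw [← Ext.comp_assoc hc.extClass (Ext.mk₀ (mapNat (η := η) S).τ₁) _ (a₁₂ := 1) (by omega) (by omega) (by omega),
    ← Ext.comp_assoc (Ext.mk₀ (mapNat (η := η) S).τ₃) hΦ.extClass _ (a₁₂ := 1) (by omega) (by omega) (by omega),
    ShortComplex.ShortExact.extClass_naturality hc hΦ (mapNat (η := η) S)]

include hc hΦ in
/-- The middle of an extension. -/
theorem B_mid (h1 : B η F S.X₁) (h3 : B η F S.X₃) : B η F S.X₂ := by
  intro n
  constructor
  · rw [injective_iff_map_eq_zero]
    intro x hx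
    obtain ⟨u, hu⟩ := exact₂ hΦ x ((h1 n).1 (by rw [← pre_natural, hx, map_zero, map_zero]))
    have h' : pre (Λ := Λ) F (c.map S.g) n (pre (Λ := Λ) F (η.app S.X₃) n u) = 0 := by
      rw [pre_natural, hu, hx]
    cases n with
    | zero => rw [← hu, (injective_iff_map_eq_zero _).1 (h3 0).1 u (g_injective_zero hc _ h'), map_zero]
    | succ n =>
      obtain ⟨v, hv⟩ := exact₃ hc (show 1 + n = n + 1 by omega) _ h'
      obtain ⟨v', rfl⟩ := (h1 n).2 v
      rw [delta_natural S hc hΦ] at hv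
      rw [← hu, ← (h3 (n + 1)).1 hv, g_δ]
  · intro y
    obtain ⟨a, ha⟩ := (h1 n).2 (pre (Λ := Λ) F (c.map S.f) n y)
    have hδ : δ hΦ (show 1 + n = 1 + n from rfl) a = 0 :=
      (h3 (1 + n)).1 (by rw [← delta_natural S hc hΦ, ha, δ_f, map_zero])
    obtain ⟨x, hx⟩ := exact₁ hΦ rfl a hδ
    obtain ⟨u, hu⟩ := exact₂ hc (y - pre (Λ := Λ) F (η.app S.X₂) n x)
      (by rw [map_sub, pre_natural, hx, ha, sub_self])
    obtain ⟨u', rfl⟩ := (h3 n).2 u
    refine ⟨x + pre (Λ := Λ) F (Φ.map S.g) n u', ?_⟩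
    rw [map_add, ← pre_natural, hu, add_sub_cancel]

end Triangle

variable [c.Additive] [Φ.Additive] [Functor.Linear Λ c] [Functor.Linear Λ Φ]

theorem pre_smul_id {M : A} (a : Λ) (n : ℕ) (x : Ext M F n) :
    pre (Λ := Λ) F (a • 𝟙 M) n x = a • x := by
  rw [pre_apply, Ext.mk₀_smul, Ext.smul_comp, Ext.mk₀_id_comp]

/-- Multiplication by a regular element, with good cokernel. -/
theorem B_regular {M N : ModuleCat.{r} Λ} (a : Λ) (p : M ⟶ N) (w : (a • 𝟙 M) ≫ p = 0)
    (hc : ((ShortComplex.mk (a • 𝟙 M) p w).map c).ShortExact)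
    (hΦ : ((ShortComplex.mk (a • 𝟙 M) p w).map Φ).ShortExact)
    (hT : ∀ (Z : A) (n : ℕ), Tel.Tel (Ext Z F n) a) (hN : B η F N) : B η F M := by
  have hfc : ∀ n (x : Ext (c.obj M) F n), pre (Λ := Λ) F (c.map (a • 𝟙 M)) n x = a • x := fun n x => by
    rw [Functor.map_smul, CategoryTheory.Functor.map_id, pre_smul_id]
  have hfΦ : ∀ n (x : Ext (Φ.obj M) F n), pre (Λ := Λ) F (Φ.map (a • 𝟙 M)) n x = a • x := fun n x => by
    rw [Functor.map_smul, CategoryTheory.Functor.map_id, pre_smul_id]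
  have hinj : ∀ n, Function.Injective (pre (Λ := Λ) F (η.app M) n) := by
    intro n
    let K := LinearMap.ker (pre (Λ := Λ) F (η.app M) n)
    have : Subsingleton K := Tel.subsingleton_of_surjective
      (Tel.tel_ker (hT _ n) (hT _ n) (pre (Λ := Λ) F (η.app M) n)) fun x => by
        obtain ⟨x, hx⟩ := x
        have hx0 : pre (Λ := Λ) F (η.app M) n x = 0 := hx
        have hδ : δ hΦ (show 1 + n = 1 + n from rfl) x = 0 := (hN (1 + n)).1 (by
          rw [← delta_natural _ hc hΦ]
          exact (congrArg (δ hc rfl) hx0).trans ((map_zero _).trans (map_zero _).symm))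
        obtain ⟨y, hy⟩ := exact₁ hΦ rfl x hδ
        rw [show (ShortComplex.mk (a • 𝟙 M) p w).f = a • 𝟙 M from rfl, hfΦ] at hy
        have hby : pre (Λ := Λ) F (c.map (a • 𝟙 M)) n (pre (Λ := Λ) F (η.app M) n y) = 0 := by
          rw [hfc, ← map_smul]
          exact (congrArg _ hy).trans hx0
        obtain ⟨z, hz⟩ := exact₂ hc _ hby
        obtain ⟨z', rfl⟩ := (hN n).2 z
        rw [pre_natural] at hz
        refine ⟨⟨y - pre (Λ := Λ) F (Φ.map p) n z', ?_⟩, Subtype.ext ?_⟩
        · rw [LinearMap.mem_ker, map_sub]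
          exact sub_eq_zero.2 hz.symm
        · show a • (y - pre (Λ := Λ) F (Φ.map p) n z') = x
          rw [smul_sub, ← hfΦ n (pre (Λ := Λ) F (Φ.map p) n z'), pre_pre, ← CategoryTheory.Functor.map_comp, w,
            Functor.map_zero]
          refine Eq.trans ?_ hy
          simp [pre_apply]
    exact LinearMap.ker_eq_bot.1 (Submodule.eq_bot_of_subsingleton)
  intro n
  refine ⟨hinj n, fun w' => ?_⟩
  have : Subsingleton (Ext (c.obj M) F n ⧸ LinearMap.range (pre (Λ := Λ) F (η.app M) n)) :=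
    Tel.subsingleton_of_surjective (Tel.tel_coker (hT _ n) (hT _ n) (pre (Λ := Λ) F (η.app M) n)) fun q => by
      obtain ⟨x, rfl⟩ := Submodule.Quotient.mk_surjective _ q
      obtain ⟨u, hu⟩ := (hN (1 + n)).2 (δ hc rfl x)
      have hv : pre (Λ := Λ) F (Φ.map p) (1 + n) u = 0 := hinj (1 + n) (by
        rw [map_zero, ← pre_natural, hu]
        exact g_δ hc rfl x)
      obtain ⟨x', hx'⟩ := exact₃ hΦ rfl u hv
      obtain ⟨y, hy⟩ := exact₁ hc rfl (x - pre (Λ := Λ) F (η.app M) n x') (by
        rw [map_sub, sub_eq_zero]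
        exact hu.symm.trans ((congrArg _ hx'.symm).trans (delta_natural _ hc hΦ rfl x').symm))
      rw [show (ShortComplex.mk (a • 𝟙 M) p w).f = a • 𝟙 M from rfl, hfc] at hy
      refine ⟨Submodule.Quotient.mk y, ?_⟩
      show a • Submodule.Quotient.mk y = _
      rw [← Submodule.Quotient.mk_smul, hy]
      exact (Submodule.Quotient.eq _).2 ⟨-x', by simp⟩
  exact (Submodule.Quotient.mk_eq_zero _).1 (Subsingleton.elim
    (Submodule.Quotient.mk w' : Ext (c.obj M) F n ⧸ LinearMap.range (pre (Λ := Λ) F (η.app M) n)) 0)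

variable [IsNoetherianRing Λ]

/-- Devissage: it is enough to compare the functors on modules killed by the generators. -/
theorem B_of_finite
    (hc : ∀ S : ShortComplex (ModuleCat.{r} Λ), S.ShortExact → (S.map c).ShortExact)
    (hΦ : ∀ S : ShortComplex (ModuleCat.{r} Λ), S.ShortExact → Module.Finite Λ S.X₂ →
      (S.map Φ).ShortExact)
    (l₀ : List Λ) (hT : ∀ a ∈ l₀, ∀ (Z : A) (n : ℕ), Tel.Tel (Ext Z F n) a)
    (h0 : ∀ M : ModuleCat.{r} Λ, Module.Finite Λ M → (∀ a ∈ l₀, ∀ m : M, a • m = 0) → B η F M)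
    (M : ModuleCat.{r} Λ) [Module.Finite Λ M] : B η F M := by
  suffices H : ∀ (d l : List Λ), d ++ l = l₀ → ∀ M : ModuleCat.{r} Λ, Module.Finite Λ M →
      (∀ a ∈ l, ∀ m : M, a • m = 0) → B η F M from
    H l₀ [] (List.append_nil _) M inferInstance (by simp)
  intro d
  induction d using List.reverseRecOn with
  | nil => intro l hl M hM hk; exact h0 M hM (by simpa [← hl] using hk)
  | append_singleton d a ih =>
    intro l hl
    have hl' : d ++ (a :: l) = l₀ := by rw [← hl]; simp
    have ha : a ∈ l₀ := by rw [← hl']; simp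
    have sec : ∀ (M : ModuleCat.{r} Λ) (T : Submodule Λ M),
        (ShortComplex.mk (ModuleCat.ofHom T.subtype) (ModuleCat.ofHom T.mkQ)
          (by ext x; exact (Submodule.Quotient.mk_eq_zero T).2 x.2)).ShortExact := fun M T =>
      { exact := by
          rw [ShortComplex.moduleCat_exact_iff]
          intro x hx
          exact ⟨⟨x, (Submodule.Quotient.mk_eq_zero T).1 hx⟩, rfl⟩
        mono_f := (ModuleCat.mono_iff_injective _).2 Subtype.val_injective
        epi_g := (ModuleCat.epi_iff_surjective _).2 T.mkQ_surjective }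
    -- modules killed by a power of `a`
    have hpow : ∀ k (M : ModuleCat.{r} Λ), Module.Finite Λ M → (∀ b ∈ l, ∀ m : M, b • m = 0) →
        (∀ m : M, a ^ (k + 1) • m = 0) → B η F M := by
      intro k
      induction k with
      | zero => exact fun M hM hk h1 => ih _ hl' M hM (by simpa [List.forall_mem_cons] using And.intro (fun m => (congrArg (· • m) (pow_one a).symm).trans (h1 m)) hk)
      | succ k ihk =>
        intro M hM hk h1
        let T := LinearMap.range (a • (LinearMap.id : M →ₗ[Λ] M))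
        refine B_mid _ (hc _ (sec M T)) (hΦ _ (sec M T) hM) ?_ ?_
        · refine ihk (ModuleCat.of Λ T) inferInstance (fun b hb m => Subtype.ext (hk b hb _)) ?_
          rintro ⟨_, m, rfl⟩
          refine Subtype.ext ?_
          show a ^ (k + 1) • (a • m) = 0
          rw [smul_smul, ← pow_succ]
          exact h1 m
        · refine ih _ hl' (ModuleCat.of Λ (M ⧸ T)) inferInstance fun b hb m => ?_
          obtain ⟨m, rfl⟩ := Submodule.Quotient.mk_surjective _ m
          refine (Submodule.Quotient.mk_eq_zero T).2 ?_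
          rcases List.mem_cons.1 hb with rfl | hb
          · exact ⟨m, rfl⟩
          · show b • m ∈ T
            rw [hk b hb m]; exact zero_mem _
    intro M hM hk
    have : IsNoetherian Λ M := isNoetherian_of_isNoetherianRing_of_finite Λ M
    let K : ℕ →o Submodule Λ M :=
      ⟨fun k => LinearMap.ker (a ^ k • (LinearMap.id : M →ₗ[Λ] M)), fun i j hij x hx => by
        simp only [LinearMap.mem_ker, LinearMap.smul_apply, LinearMap.id_apply] at hx ⊢
        rw [← Nat.sub_add_cancel hij, pow_add, mul_smul, hx, smul_zero]⟩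
    obtain ⟨k, hk'⟩ := monotone_stabilizes_iff_noetherian.2 this K
    have hst : ∀ x : M, a • x ∈ K k → x ∈ K k := fun x hx => by
      rw [hk' (k + 1) (Nat.le_succ k)]
      show (a ^ (k + 1)) • x = 0
      rw [pow_succ, mul_smul]
      exact hx
    refine B_mid _ (hc _ (sec M (K k))) (hΦ _ (sec M (K k)) hM) ?_ ?_
    · exact hpow k _ inferInstance (fun b hb m => Subtype.ext (hk b hb _)) fun m => Subtype.ext (by
        show a ^ (k + 1) • m.1 = 0
        rw [pow_succ', mul_smul, show a ^ k • m.1 = 0 from m.2, smul_zero])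
    · let N := ModuleCat.of Λ (M ⧸ K k)
      let T := LinearMap.range (a • (LinearMap.id : N →ₗ[Λ] N))
      let p : N ⟶ ModuleCat.of Λ (N ⧸ T) := ModuleCat.ofHom T.mkQ
      have w : (a • 𝟙 N) ≫ p = 0 := by
        ext x
        exact (Submodule.Quotient.mk_eq_zero T).2 ⟨_, rfl⟩
      have hse : (ShortComplex.mk (a • 𝟙 N) p w).ShortExact :=
        { exact := by
            rw [ShortComplex.moduleCat_exact_iff]
            intro x hx
            obtain ⟨y, hy⟩ := (Submodule.Quotient.mk_eq_zero T).1 hx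
            exact ⟨y, hy⟩
          mono_f := (ModuleCat.mono_iff_injective _).2 ((injective_iff_map_eq_zero _).2 fun x hx => by
            obtain ⟨x, rfl⟩ := Submodule.Quotient.mk_surjective _ x
            exact (Submodule.Quotient.mk_eq_zero _).2 (hst x ((Submodule.Quotient.mk_eq_zero _).1 hx)))
          epi_g := (ModuleCat.epi_iff_surjective _).2 T.mkQ_surjective }
      refine B_regular a p w (hc _ hse) (hΦ _ hse inferInstance) (hT a ha) ?_
      refine ih _ hl' _ inferInstance fun b hb y => ?_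
      obtain ⟨y, rfl⟩ := Submodule.Quotient.mk_surjective T y
      rcases List.mem_cons.1 hb with rfl | hb
      · exact (Submodule.Quotient.mk_eq_zero T).2 ⟨y, rfl⟩
      · obtain ⟨m, rfl⟩ := Submodule.Quotient.mk_surjective _ y
        refine (Submodule.Quotient.mk_eq_zero T).2 ?_
        show (Submodule.Quotient.mk (b • m) : M ⧸ K k) ∈ T
        rw [hk b hb m]
        exact zero_mem _

end Groth.Agent.ProEtDCLib.Devis
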