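import Groth.Agent.ProEtDCLib.Main
import Mathlib.Algebra.Homology.DerivedCategory.Linear
import Mathlib.Algebra.Homology.DerivedCategory.Ext.Linear

/-!
# Ext groups into derived complete sheaves are derived complete
-/

universe u

open CategoryTheory CategoryTheory.Limits AlgebraicGeometry Opposite ProEtDC

attribute [local instance] HasDerivedCategory.standard

namespace Groth.Agent.ProEtDCLib

open Groth.Agent Groth.Agent.EtModWLib

variable {Λ : Type (u + 1)} [CommRing Λ] {X : Scheme.{u}}
variable {L : CochainComplex (EtModW.ModP Λ X) ℤ}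

theorem piLift_proj {K : CochainComplex (EtModW.ModP Λ X) ℤ} (g : ℕ → (K ⟶ L)) (k : ℕ) :
    piLift g ≫ piProj L k = g k := by
  ext n : 1
  exact Pi.lift_π (fun j => (g j).f n) k

theorem piD_proj (f : Λ) (k : ℕ) :
    piD L f ≫ piProj L k = piProj L k - f • piProj L (k + 1) := piLift_proj _ k

/-- Homotopies into the product complex are componentwise. -/
noncomputable def piHomotopy {K : CochainComplex (EtModW.ModP Λ X) ℤ} {p q : K ⟶ piC L}
    (h : ∀ k, Homotopy (p ≫ piProj L k) (q ≫ piProj L k)) : Homotopy p q where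
  hom i j := Pi.lift fun k => (h k).hom i j
  zero i j hij := Pi.hom_ext _ _ fun k =>
    ((Pi.lift_π (fun k => (h k).hom i j) k).trans ((h k).zero i j hij)).trans zero_comp.symm
  comm i := Pi.hom_ext _ _ fun k => by
    have e := (h k).comm i
    rw [HomologicalComplex.comp_f, HomologicalComplex.comp_f] at e
    refine e.trans ?_
    simp only [dNext, prevD, AddMonoidHom.mk'_apply]
    symm
    refine (Preadditive.add_comp ..).trans ?_
    refine congrArg₂ (· + ·) ?_ rfl
    refine (Preadditive.add_comp ..).trans ?_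
    refine congrArg₂ (· + ·) ?_ ?_
    · exact (Category.assoc ..).trans (congrArg _ (Pi.lift_π (fun k => (h k).hom _ i) k))
    · refine (Category.assoc ..).trans ((congrArg _ (Pi.map_π (fun _ : ℕ => L.d _ i) k)).trans ?_)
      exact (Category.assoc ..).symm.trans (congrArg (· ≫ _) (Pi.lift_π (fun k => (h k).hom i _) k))

variable (L) in
theorem tel_Q_hom [L.IsKInjective] (f : Λ)
    (h : ∀ (W : X.ProEt), _root_.ProEtS.IsWC W → ∀ p : ℤ,
      DRing.Tel.Tel ((sectFun Λ W).obj (L.homology p)) f) (K : CochainComplex (EtModW.ModP Λ X) ℤ) :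
    DRing.Tel.Tel (DerivedCategory.Q.obj K ⟶ DerivedCategory.Q.obj L) f := by
  have := quasiIso_piD L f h
  obtain ⟨e, he⟩ := (CochainComplex.IsKInjective.quasiIso_iff (piD L f)).1 inferInstance
  have hsurj : Function.Surjective (fun φ : K ⟶ L => DerivedCategory.Q.map φ) := fun g => by
    obtain ⟨a, ha⟩ := (CochainComplex.IsKInjective.Qh_map_bijective
      ((HomotopyCategory.quotient _ _).obj K) L).2
        ((DerivedCategory.quotientCompQhIso _).hom.app K ≫ g ≫
          (DerivedCategory.quotientCompQhIso _).inv.app L)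
    obtain ⟨φ, rfl⟩ := (HomotopyCategory.quotient _ _).map_surjective a
    refine ⟨φ, ?_⟩
    have hn := (DerivedCategory.quotientCompQhIso (EtModW.ModP Λ X)).hom.naturality φ
    rw [Functor.comp_map, ha] at hn
    simp only [Category.assoc, Iso.inv_hom_id_app, Category.comp_id] at hn
    exact ((cancel_epi ((DerivedCategory.quotientCompQhIso _).hom.app K)).1
      (hn.trans rfl)).symm
  have hzero : ∀ φ : K ⟶ L, DerivedCategory.Q.map φ = 0 → Nonempty (Homotopy φ 0) := fun φ hφ => by
    refine ⟨HomotopyCategory.homotopyOfEq _ _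
      ((CochainComplex.IsKInjective.Qh_map_bijective _ L).1 ?_)⟩
    rw [Functor.map_zero, Functor.map_zero]
    have hn := (DerivedCategory.quotientCompQhIso (EtModW.ModP Λ X)).hom.naturality φ
    rw [Functor.comp_map, hφ, comp_zero] at hn
    exact (cancel_mono ((DerivedCategory.quotientCompQhIso _).hom.app L)).1 (hn.trans zero_comp.symm)
  refine DRing.Tel.tel_iff.2 ⟨fun x hx => ?_, fun g => ?_⟩
  · choose ψ hψ using fun k => hsurj (x k)
    simp only at hψ
    have H := fun k => (hzero (ψ k - f • ψ (k + 1)) (by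
      rw [Functor.map_sub, Functor.map_smul, hψ, hψ, ← hx k, sub_self])).some
    let Ψ := piLift ψ
    have h1 : Homotopy (Ψ ≫ piD L f) 0 := piHomotopy fun k => (Homotopy.ofEq (by
      rw [Category.assoc, piD_proj, Preadditive.comp_sub, Linear.comp_smul, piLift_proj, piLift_proj])).trans
        ((H k).trans (Homotopy.ofEq zero_comp.symm))
    have h2 : Homotopy Ψ 0 := (Homotopy.ofEq (Category.comp_id Ψ).symm).trans
      (((e.homotopyHomInvId.symm).compLeft Ψ).trans ((Homotopy.ofEq (by rw [he, Category.assoc])).trans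
        ((h1.compRight e.inv).trans (Homotopy.ofEq zero_comp))))
    funext k
    rw [← hψ k]
    show DerivedCategory.Q.map (ψ k) = 0
    rw [← piLift_proj ψ k, DerivedCategory.Q_map_eq_of_homotopy _ (h2.compRight (piProj L k)),
      zero_comp, Functor.map_zero]
  · choose φ hφ using fun k => hsurj (g k)
    simp only at hφ
    let Ψ := piLift φ ≫ e.inv
    refine ⟨fun k => DerivedCategory.Q.map (Ψ ≫ piProj L k), fun k => ?_⟩
    rw [← Functor.map_smul, ← Functor.map_sub, ← Linear.comp_smul, ← Preadditive.comp_sub, ← piD_proj,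
      ← hφ k, ← piLift_proj φ k]
    refine DerivedCategory.Q_map_eq_of_homotopy _ ((Homotopy.ofEq (Category.assoc Ψ (piD L f) (piProj L k)).symm).trans
      (Homotopy.compRight ?_ (piProj L k)))
    exact (Homotopy.ofEq (by rw [← he]; exact Category.assoc _ _ _)).trans
      ((e.homotopyInvHomId.compLeft (piLift φ)).trans (Homotopy.ofEq (Category.comp_id _)))

/-- Maps into a derived complete object form derived complete modules. -/
theorem tel_hom {I : Ideal Λ} {K₂ : DP Λ X} (hK : IsDC Λ I K₂) {f : Λ} (hf : f ∈ I) (K₁ : DP Λ X) :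
    DRing.Tel.Tel (K₁ ⟶ K₂) f := by
  obtain ⟨L, g, hL, hg, -, -⟩ :=
    DHA.KInj.exists_resolution (EtModW.ModP Λ X) (DerivedCategory.Q.objPreimage K₂)
  let e : K₂ ≅ DerivedCategory.Q.obj L :=
    (DerivedCategory.Q.objObjPreimageIso K₂).symm ≪≫ (haveI := hg; asIso (DerivedCategory.Q.map g))
  have h := tel_Q_hom L f (fun W hW p => DRing.Tel.tel_congr
    ((sectFun Λ W).mapIso ((DerivedCategory.homologyFunctor _ p).mapIso e ≪≫
      (DerivedCategory.homologyFunctorFactors _ p).app L)).toLinearEquiv
    ((isDC_iff I K₂).1 hK f hf W hW p)) (DerivedCategory.Q.objPreimage K₁)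
  exact DRing.Tel.tel_congr
    (Linear.homCongr Λ (DerivedCategory.Q.objObjPreimageIso K₁) e.symm) h

/-- Ext groups into derived complete sheaves. -/
theorem tel_ext {I : Ideal Λ} {F : EtModW.ModP Λ X} (hF : IsDCSheaf Λ I F) {f : Λ} (hf : f ∈ I)
    (Z : EtModW.ModP Λ X) (n : ℕ) : DRing.Tel.Tel (Abelian.Ext.{u + 1} Z F n) f := by
  have hDC : IsDC Λ I ((shiftFunctor (DP Λ X) (n : ℤ)).obj
      ((DerivedCategory.singleFunctor (EtModW.ModP Λ X) 0).obj F)) := fun U g hg m => by
    refine (Iso.homCongr (Iso.refl ((DerivedCategory.singleFunctor (EtModW.ModP Λ X) 0).obj (locExt Λ U g)))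
      ((shiftFunctorAdd (DP Λ X) (n : ℤ) m).app
        ((DerivedCategory.singleFunctor (EtModW.ModP Λ X) 0).obj F))).subsingleton_congr.1 ?_
    exact (subsingleton_ext_iff _ _).1 (hF U g hg) _
  exact DRing.Tel.tel_congr (Abelian.Ext.homLinearEquiv (R := Λ)).symm
    (tel_hom hDC hf ((DerivedCategory.singleFunctor (EtModW.ModP Λ X) 0).obj Z))

end Groth.Agent.ProEtDCLib
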