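import Groth.Agent.ProEtDCLib.Sect
import Mathlib.CategoryTheory.Comma.Over.Basic

/-!
# Maps out of `locExt U f`
-/

universe u

open CategoryTheory CategoryTheory.Limits AlgebraicGeometry Opposite ProEtDC

namespace Groth.Agent.ProEtDCLib

open Groth.Agent Groth.Agent.EtModWLib

variable {Λ : Type (u + 1)} [CommRing Λ] {X : Scheme.{u}}

/-- The sheaf generated over `U` by a module is left adjoint to sections over `U`. -/
noncomputable def secAdj (U : X.ProEt) :
    constantSheaf ((Scheme.ProEt.topology X).over U) (ModuleCat.{u + 1} Λ) ⋙ extZeroModP Λ U ⊣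
      sectFun Λ U :=
  (constantSheafAdj ((Scheme.ProEt.topology X).over U) (ModuleCat.{u + 1} Λ)
    (Over.mkIdTerminal (X := U))).comp
    ((Over.forget U).sheafAdjunctionContinuous (ModuleCat.{u + 1} Λ)
      ((Scheme.ProEt.topology X).over U) (Scheme.ProEt.topology X))

/-- Maps out of `locExt U f` are maps of modules out of the localization. -/
noncomputable def locHomEquiv (U : X.ProEt) (f : Λ) (F : EtModW.ModP Λ X) :
    (locExt Λ U f ⟶ F) ≃ (ModuleCat.of Λ (Localization.Away f) ⟶ (sectFun Λ U).obj F) :=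
  (secAdj (Λ := Λ) U).homEquiv (ModuleCat.of Λ (Localization.Away f)) F

theorem locHomEquiv_comp (U : X.ProEt) (f : Λ) {F G : EtModW.ModP Λ X} (φ : locExt Λ U f ⟶ F)
    (g : F ⟶ G) : locHomEquiv U f G (φ ≫ g) = locHomEquiv U f F φ ≫ (sectFun Λ U).map g :=
  (secAdj (Λ := Λ) U).homEquiv_naturality_right φ g

/-- The sequence of sections attached to a map out of `locExt U f`. -/
noncomputable def seqOf {U : X.ProEt} {f : Λ} {F : EtModW.ModP Λ X} (φ : locExt Λ U f ⟶ F) (k : ℕ) :
    (sectFun Λ U).obj F :=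
  locHomEquiv U f F φ ((IsLocalization.Away.invSelf f : Localization.Away f) ^ k)

variable {U : X.ProEt} {f : Λ} {F : EtModW.ModP Λ X}

theorem seqOf_rel (φ : locExt Λ U f ⟶ F) (k : ℕ) : seqOf φ k = f • seqOf φ (k + 1) := by
  unfold seqOf
  refine Eq.trans ?_ (map_smul _ f _)
  exact congrArg _ (DRing.TelComplex.smul_invSelf f k).symm

theorem seqOf_comp {G : EtModW.ModP Λ X} (φ : locExt Λ U f ⟶ F) (g : F ⟶ G) (k : ℕ) :
    seqOf (φ ≫ g) k = (sectFun Λ U).map g (seqOf φ k) := by
  unfold seqOf
  rw [locHomEquiv_comp]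
  rfl

theorem seqOf_injective : Function.Injective (seqOf : (locExt Λ U f ⟶ F) → _) := by
  intro φ ψ h
  refine (locHomEquiv U f F).injective (ModuleCat.hom_ext (LinearMap.ext fun z => ?_))
  obtain ⟨x, rfl⟩ := DRing.TelComplex.πF_surjective f z
  refine LinearMap.congr_fun (f := (locHomEquiv U f F φ).hom.comp (DRing.TelComplex.πF f))
    (g := (locHomEquiv U f F ψ).hom.comp (DRing.TelComplex.πF f)) (Finsupp.lhom_ext' fun k => LinearMap.ext_ring ?_) x
  simp only [LinearMap.comp_apply, Finsupp.lsingle_apply, DRing.TelComplex.πF_single, one_smul]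
  exact congrFun h k

theorem exists_seqOf (x : ℕ → (sectFun Λ U).obj F) (hx : ∀ k, x k = f • x (k + 1)) :
    ∃ φ : locExt Λ U f ⟶ F, ∀ k, seqOf φ k = x k := by
  let c : (ℕ →₀ Λ) →ₗ[Λ] (sectFun Λ U).obj F := Finsupp.linearCombination Λ x
  have hc : LinearMap.ker (DRing.TelComplex.πF f) ≤ LinearMap.ker c := fun v hv => by
    obtain ⟨y, rfl⟩ := DRing.TelComplex.ker_πF f v hv
    refine LinearMap.congr_fun (f := c.comp (DRing.TelComplex.δF f)) (g := 0)
      (Finsupp.lhom_ext' fun k => LinearMap.ext_ring ?_) y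
    simp only [c, LinearMap.comp_apply, Finsupp.lsingle_apply, DRing.TelComplex.δF_single,
      map_sub, map_smul, Finsupp.linearCombination_single, one_smul, LinearMap.zero_apply,
      sub_eq_zero]
    exact hx k
  let e := (DRing.TelComplex.πF f).quotKerEquivOfSurjective (DRing.TelComplex.πF_surjective f)
  let g := ((LinearMap.ker (DRing.TelComplex.πF f)).liftQ c hc).comp e.symm.toLinearMap
  refine ⟨(locHomEquiv U f F).symm (ModuleCat.ofHom g), fun k => ?_⟩
  unfold seqOf
  rw [Equiv.apply_symm_apply]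
  show g ((IsLocalization.Away.invSelf f : Localization.Away f) ^ k) = x k
  have he : e.symm ((IsLocalization.Away.invSelf f : Localization.Away f) ^ k) =
      Submodule.Quotient.mk (Finsupp.single k 1) := by
    rw [LinearEquiv.symm_apply_eq, LinearMap.quotKerEquivOfSurjective_apply_mk,
      DRing.TelComplex.πF_single, one_smul]
  simp only [g, LinearMap.comp_apply, LinearEquiv.coe_coe, he, Submodule.liftQ_apply, c,
    Finsupp.linearCombination_single, one_smul]

end Groth.Agent.ProEtDCLib
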