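import Groth.Agent.ProEtDCLib.Sect
import Mathlib.CategoryTheory.Sites.LocallyBijective
import Mathlib.Algebra.Module.FinitePresentation

/-!
# Locally constant sheaves of finite type over a weakly contractible base have finitely many generators
-/

universe u

open CategoryTheory CategoryTheory.Limits AlgebraicGeometry Opposite

namespace Groth.Agent.ProEtDCLib

open Groth.Agent Groth.Agent.EtModWLib

variable {Λ : Type (u + 1)} [CommRing Λ] {X : Scheme.{u}}

/-- The structure map of an object to the final object. -/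
noncomputable abbrev toTop (U : X.ProEt) : U ⟶ _root_.ProEtS.topP X := MorphismProperty.Over.homMk U.hom

theorem toTop_comp {U V : X.ProEt} (g : V ⟶ U) : g ≫ toTop U = toTop V :=
  (Scheme.ProEt.forget X).map_injective (Over.OverMorphism.ext (Over.w g.hom))

set_option backward.isDefEq.respectTransparency.types false in
theorem exists_generators [IsAffine X] (hX : EtPBC.IsWContractible ↥(Γ(X, ⊤)))
    (Q : EtModW.ModP Λ X) (hQ : EtModW.IsFPLocConstP Λ Q) :
    ∃ (t : ℕ) (s : Fin t → Q.obj.obj (op (_root_.ProEtS.topP X))),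
      ∀ (G : EtModW.ModP Λ X) (a b : Q ⟶ G),
        (∀ i, a.hom.app (op (_root_.ProEtS.topP X)) (s i) = b.hom.app (op (_root_.ProEtS.topP X)) (s i)) →
          a = b := by
  obtain ⟨ι, U, hcov, hloc⟩ := hQ
  choose M i1 i2 i3 he using hloc
  have e := fun i => (he i).some
  let T := _root_.ProEtS.topP X
  have : IsAffine T.left := ‹IsAffine X›
  obtain ⟨n, W, -, hd, hu, hR⟩ := ProEtS.Affine.exists_clopen_refinement T hX hcov
  let ι' := ULift.{u} (Fin n)
  let V : ι' → X.ProEt := fun k => Scheme.ProEt.mk ((W k.down).ι ≫ T.hom)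
  let j : ∀ k, V k ⟶ T := fun k => MorphismProperty.Over.homMk (W k.down).ι
  have hfac : ∀ k, ∃ (i : ι), Nonempty (V k ⟶ U i) := fun k => by
    obtain ⟨_, m, _, ⟨i⟩, -⟩ := hR k.down
    exact ⟨i, ⟨m⟩⟩
  choose idx hm using hfac
  have m := fun k => (hm k).some
  have ho : ∀ k, IsOpenImmersion (j k).left := fun k => inferInstanceAs (IsOpenImmersion (W k.down).ι)
  have hr : ∀ k, Set.range (j k).left = (W k.down : Set ↥T.left) := fun k => Scheme.Opens.range_ι _
  have hd' : ∀ p q, p ≠ q → Disjoint (Set.range (j p).left) (Set.range (j q).left) := fun p q hpq => by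
    rw [hr, hr]
    exact hd fun h => hpq (ULift.ext _ _ h)
  have hc : ∀ x, ∃ k, x ∈ Set.range (j k).left := fun x => by
    obtain ⟨k, hk⟩ := Set.mem_iUnion.1 (Set.eq_univ_iff_forall.1 hu x)
    exact ⟨⟨k⟩, hr ⟨k⟩ ▸ hk⟩
  have : ∀ i, Module.Finite Λ (M i) := fun i =>
    have := i3 i; inferInstance
  choose d gen hgen using fun i => Module.Finite.exists_fin (R := Λ) (M := M i)
  let η := fun i => toSheafify ((Scheme.ProEt.topology X).over (U i))
    ((Functor.const (Over (U i))ᵒᵖ).obj (ModuleCat.of Λ (M i)))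
  let loc : ∀ i, (M i) → Q.obj.obj (op (U i)) := fun i x =>
    (e i).inv.hom.app (op (Over.mk (𝟙 (U i)))) ((η i).app (op (Over.mk (𝟙 (U i)))) x)
  classical
  let J := Σ k : Fin n, Fin (d (idx ⟨k⟩))
  obtain ⟨t, ⟨en⟩⟩ := Finite.exists_equiv_fin J
  have hglue : ∀ p : J, ∃ y : Q.obj.obj (op T), Q.obj.map (j ⟨p.1⟩).op y =
      Q.obj.map (m ⟨p.1⟩).op (loc _ (gen _ p.2)) := fun p => by
    obtain ⟨y, hy, -⟩ := ProEtS.WC.existsUnique_glue
      ((sheafCompose (Scheme.ProEt.topology X) (forget (ModuleCat.{u + 1} Λ))).obj Q) V j ho hd' hc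
      (fun k => if h : k = ⟨p.1⟩ then h ▸ Q.obj.map (m ⟨p.1⟩).op (loc _ (gen _ p.2)) else (0 : Q.obj.obj (op (V k))))
    refine ⟨y, ?_⟩
    have := hy ⟨p.1⟩
    rw [dif_pos rfl] at this
    exact this
  choose y hy using hglue
  refine ⟨t, fun i => y (en.symm i), fun G a b hab => ?_⟩
  have hab' : ∀ p : J, a.hom.app (op T) (y p) = b.hom.app (op T) (y p) := fun p => by
    simpa using hab (en p)
  refine Sheaf.hom_ext (NatTrans.ext (funext fun Z₀ => ?_))
  obtain ⟨Z₀⟩ := Z₀
  refine ModuleCat.hom_ext (LinearMap.ext fun q => ?_)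
  refine G.property.isSeparated _ _ ((Scheme.ProEt.topology X).pullback_stable (toTop Z₀)
    (ProEtS.WC.ofArrows_mem_of_isOpenImmersion V j ho hc)) _ _ fun Z g hg => ?_
  obtain ⟨_, h, _, ⟨k⟩, hh⟩ := hg
  let i := idx k
  let p : Z ⟶ U i := h ≫ m k
  let ξ := (e i).hom.hom.app (op (Over.mk p)) (Q.obj.map g.op q)
  have hcov' : Sieve.overEquiv (Over.mk p) (Presheaf.imageSieve (η i) ξ) ∈ Scheme.ProEt.topology X Z :=
    Presheaf.imageSieve_mem ((Scheme.ProEt.topology X).over (U i)) (η i) ξ
  refine G.property.isSeparated _ _ hcov' _ _ fun Z' r hr' => ?_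
  rw [Sieve.overEquiv_iff] at hr'
  obtain ⟨x, hx⟩ := hr'
  obtain ⟨c, hc'⟩ := (Submodule.mem_span_range_iff_exists_fun Λ).1
    ((hgen i).symm ▸ Submodule.mem_top : (x : M i) ∈ Submodule.span Λ (Set.range (gen i)))
  let q' := Q.obj.map r.op (Q.obj.map g.op q)
  have hq : q' = ∑ l, c l • Q.obj.map (r ≫ h).op (Q.obj.map (m k).op (loc i (gen i l))) := by
    let O : Over (U i) := Over.mk (r ≫ p)
    let ρ : O ⟶ Over.mk p := Over.homMk r
    have h1 : ∀ z : M i, Q.obj.map (r ≫ h).op (Q.obj.map (m k).op (loc i z)) =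
        (e i).inv.hom.app (op O) ((η i).app (op O) z) := fun z => by
      let τ : O ⟶ Over.mk (𝟙 (U i)) := Over.homMk (r ≫ p)
      have e1 := NatTrans.naturality_apply (η i) τ.op z
      have e2 := NatTrans.naturality_apply (e i).inv.hom τ.op ((η i).app (op (Over.mk (𝟙 (U i)))) z)
      refine Eq.trans ?_ ((congrArg ((e i).inv.hom.app (op O)) e1).trans rfl).symm
      refine Eq.trans ?_ e2.symm
      refine Eq.trans (congrArg (fun φ => φ (loc i z)) (Q.obj.map_comp (m k).op (r ≫ h).op)).symm ?_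
      show Q.obj.map ((r ≫ h) ≫ m k).op (loc i z) = Q.obj.map (r ≫ p).op (loc i z)
      rw [Category.assoc]
    simp only [h1]
    have hinj : Function.Injective ((e i).hom.hom.app (op O)) :=
      (ModuleCat.mono_iff_injective _).1
        (inferInstanceAs (Mono (((sheafToPresheaf _ _).map (e i).hom).app (op O))))
    apply hinj
    refine ((NatTrans.naturality_apply (e i).hom.hom ρ.op (Q.obj.map g.op q)).trans hx.symm).trans ?_
    rw [← hc']
    refine (map_sum ((η i).app (op O)).hom (fun l => c l • gen i l) Finset.univ).trans ?_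
    refine Eq.trans ?_ (map_sum ((e i).hom.hom.app (op O)).hom
      (fun l => c l • (e i).inv.hom.app (op O) ((η i).app (op O) (gen i l))) Finset.univ).symm
    refine Finset.sum_congr rfl fun l _ => ?_
    refine (map_smul ((η i).app (op O)).hom (c l) (gen i l)).trans ?_
    refine Eq.trans ?_ (map_smul ((e i).hom.hom.app (op O)).hom (c l)
      ((e i).inv.hom.app (op O) ((η i).app (op O) (gen i l)))).symm
    refine congrArg (c l • ·) ?_
    exact (congrArg (fun φ => φ.hom.app (op O) ((η i).app (op O) (gen i l))) (e i).inv_hom_id).symm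
  have key : ∀ (φ : Q ⟶ G), G.obj.map r.op (G.obj.map g.op (φ.hom.app (op Z₀) q)) =
      φ.hom.app (op Z') q' := fun φ => by
    simp only [q']
    rw [NatTrans.naturality_apply, NatTrans.naturality_apply]
  rw [key a, key b, hq, map_sum, map_sum]
  refine Finset.sum_congr rfl fun l _ => ?_
  rw [map_smul, map_smul]
  refine congrArg (c l • ·) ?_
  have hy' : Q.obj.map (j k).op (y ⟨k.down, l⟩) = Q.obj.map (m k).op (loc i (gen i l)) := hy ⟨k.down, l⟩
  rw [← hy', NatTrans.naturality_apply, NatTrans.naturality_apply, NatTrans.naturality_apply,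
    NatTrans.naturality_apply, hab']

end Groth.Agent.ProEtDCLib
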