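import Groth.Agent.ProEtDCLib.Criterion

/-!
# Criteria for `IsDC` and `IsDCSheaf`
-/

universe u

open CategoryTheory CategoryTheory.Limits AlgebraicGeometry Opposite ProEtDC

attribute [local instance] HasDerivedCategory.standard

namespace Groth.Agent.ProEtDCLib

open Groth.Agent Groth.Agent.EtModWLib

variable {Λ : Type (u + 1)} [CommRing Λ] {X : Scheme.{u}}

theorem forall_subsingleton_iff_wc (K : DP Λ X) (f : Λ) :
    (∀ (U : X.ProEt) (n : ℤ), Subsingleton ((DerivedCategory.singleFunctor _ 0).obj (locExt Λ U f) ⟶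
      K⟦n⟧)) ↔
    ∀ (W : X.ProEt), _root_.ProEtS.IsWC W → ∀ p : ℤ, DRing.Tel.Tel ((sectFun Λ W).obj (HDP K p)) f := by
  let M := DerivedCategory.Q.objPreimage K
  obtain ⟨L, g, hL, hg, -, hinj⟩ := DHA.KInj.exists_resolution (EtModW.ModP Λ X) M
  let e : K ≅ DerivedCategory.Q.obj L :=
    (DerivedCategory.Q.objObjPreimageIso K).symm ≪≫
      (haveI := hg; asIso (DerivedCategory.Q.map g))
  have eH : ∀ p, HDP K p ≅ L.homology p := fun p =>
    (DerivedCategory.homologyFunctor _ p).mapIso e ≪≫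
      (DerivedCategory.homologyFunctorFactors _ p).app L
  have key : ∀ (U : X.ProEt) (n : ℤ),
      Subsingleton ((DerivedCategory.singleFunctor _ 0).obj (locExt Λ U f) ⟶ K⟦n⟧) ↔
      Subsingleton ((DerivedCategory.singleFunctor _ 0).obj (locExt Λ U f) ⟶
        (DerivedCategory.Q.obj L)⟦n⟧) := fun U n =>
    (Iso.homCongr (Iso.refl ((DerivedCategory.singleFunctor _ 0).obj (locExt Λ U f)))
      ((shiftFunctor (DP Λ X) n).mapIso e)).subsingleton_congr
  simp only [key]
  constructor
  · intro h W hW p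
    exact DRing.Tel.tel_congr
      (sectHomologyIso L W hW p ≪≫ (sectFun Λ W).mapIso (eH p).symm).toLinearEquiv
      ((forall_subsingleton_iff L f W).1 (h W) p)
  · intro h U
    refine (forall_subsingleton_iff L f U).2 (tel_sectCx_of_wc L f (fun W hW p => ?_) U)
    exact DRing.Tel.tel_congr ((sectFun Λ W).mapIso (eH p)).toLinearEquiv (h W hW p)

theorem isDC_iff (I : Ideal Λ) (K : DP Λ X) :
    IsDC Λ I K ↔ ∀ f ∈ I, ∀ (W : X.ProEt), _root_.ProEtS.IsWC W → ∀ p : ℤ,
      DRing.Tel.Tel ((sectFun Λ W).obj (HDP K p)) f :=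
  ⟨fun h f hf => (forall_subsingleton_iff_wc K f).1 fun U => h U f hf,
    fun h U f hf => (forall_subsingleton_iff_wc K f).2 (h f hf) U⟩

theorem isDCSheaf_iff (I : Ideal Λ) (F : EtModW.ModP Λ X) :
    IsDCSheaf Λ I F ↔ ∀ f ∈ I, ∀ (W : X.ProEt), _root_.ProEtS.IsWC W →
      DRing.Tel.Tel ((sectFun Λ W).obj F) f := by
  have h1 : IsDCSheaf Λ I F ↔ IsDC Λ I ((DerivedCategory.singleFunctor _ 0).obj F) :=
    ⟨fun h U f hf => (subsingleton_ext_iff _ _).1 (h U f hf),
      fun h U f hf => (subsingleton_ext_iff _ _).2 (h U f hf)⟩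
  rw [h1, isDC_iff]
  refine forall₂_congr fun f hf => forall₂_congr fun W hW => ⟨fun h => ?_, fun h p => ?_⟩
  · exact DRing.Tel.tel_congr ((sectFun Λ W).mapIso
      ((DerivedCategory.singleFunctorCompHomologyFunctorIso (EtModW.ModP Λ X) 0).app F)).toLinearEquiv (h 0)
  · by_cases hp : p = 0
    · subst hp
      exact DRing.Tel.tel_congr ((sectFun Λ W).mapIso
        ((DerivedCategory.singleFunctorCompHomologyFunctorIso (EtModW.ModP Λ X) 0).app F)).symm.toLinearEquiv h
    · have : IsZero (HDP ((DerivedCategory.singleFunctor (EtModW.ModP Λ X) 0).obj F) p) := by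
        rcases lt_or_gt_of_ne hp with h | h
        · exact DerivedCategory.isZero_of_isGE _ 0 p h
        · exact DerivedCategory.isZero_of_isLE _ 0 p h
      have := ModuleCat.subsingleton_of_isZero ((sectFun Λ W).map_isZero this)
      exact DRing.Tel.tel_of_subsingleton f

end Groth.Agent.ProEtDCLib
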