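import Groth.Agent.ProEtDCLib.Sect
import Mathlib.CategoryTheory.Linear.FunctorCategory
import Mathlib.CategoryTheory.Linear.LinearFunctor
import Mathlib.CategoryTheory.Functor.OfSequence
import Mathlib.RingTheory.Filtration
import Mathlib.CategoryTheory.Abelian.Exact

/-!
# Constant sheaves and adic completions of constant sheaves
-/

universe u

open CategoryTheory CategoryTheory.Limits AlgebraicGeometry Opposite

namespace Groth.Agent.ProEtDCLib

open Groth.Agent Groth.Agent.EtModWLib

variable (Λ : Type (u + 1)) [CommRing Λ] (X : Scheme.{u}) (I : Ideal Λ)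

/-- Constant sheaves. -/
noncomputable abbrev cst : ModuleCat.{u + 1} Λ ⥤ EtModW.ModP Λ X :=
  constantSheaf (Scheme.ProEt.topology X) (ModuleCat.{u + 1} Λ)

instance : PreservesFiniteLimits (cst Λ X) := by
  have : PreservesFiniteLimits (Functor.const X.ProEtᵒᵖ : ModuleCat.{u + 1} Λ ⥤ _) := inferInstance
  exact comp_preservesFiniteLimits _ (presheafToSheaf (Scheme.ProEt.topology X) _)

instance : PreservesFiniteColimits (cst Λ X) := by
  have : PreservesFiniteColimits (Functor.const X.ProEtᵒᵖ : ModuleCat.{u + 1} Λ ⥤ _) := inferInstance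
  have : PreservesFiniteColimits (presheafToSheaf (Scheme.ProEt.topology X) (ModuleCat.{u + 1} Λ)) := by
    have : PreservesColimitsOfSize.{0, 0} (presheafToSheaf (Scheme.ProEt.topology X) (ModuleCat.{u + 1} Λ)) :=
      (sheafificationAdjunction (Scheme.ProEt.topology X) (ModuleCat.{u + 1} Λ)).leftAdjoint_preservesColimits
    exact PreservesColimitsOfSize.preservesFiniteColimits _
  exact comp_preservesFiniteColimits _ (presheafToSheaf (Scheme.ProEt.topology X) _)

instance : (cst Λ X).PreservesHomology := inferInstance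

instance : (cst Λ X).Linear Λ where
  map_smul {M N} φ a := by
    apply Sheaf.hom_ext
    refine sheafify_hom_ext _ _ _ ((cst Λ X).obj N).property ?_
    refine (toSheafify_naturality _ ((Functor.const X.ProEtᵒᵖ).map (a • φ))).symm.trans ?_
    refine Eq.trans ?_ (Linear.comp_smul _ _ _ (toSheafify (Scheme.ProEt.topology X)
      ((Functor.const X.ProEtᵒᵖ).obj M)) a ((cst Λ X).map φ).hom).symm
    refine Eq.trans ?_ (congrArg (a • ·) (toSheafify_naturality _ ((Functor.const X.ProEtᵒᵖ).map φ)))
    exact Linear.smul_comp _ _ _ a ((Functor.const X.ProEtᵒᵖ).map φ) _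

/-- The tower of quotients of a module. -/
noncomputable abbrev tower : ModuleCat.{u + 1} Λ ⥤ ℕᵒᵖ ⥤ ModuleCat.{u + 1} Λ where
  obj M :=
    { obj := fun n => ModuleCat.of Λ (M ⧸ (I ^ n.unop • ⊤ : Submodule Λ M))
      map := fun h => ModuleCat.ofHom (Submodule.factorPow I M (leOfHom h.unop))
      map_id := fun n => by
        refine ModuleCat.hom_ext (Submodule.linearMap_qext _ (LinearMap.ext fun y => ?_))
        simp [Submodule.factorPow]
      map_comp := fun f g => by
        refine ModuleCat.hom_ext (Submodule.linearMap_qext _ (LinearMap.ext fun y => ?_))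
        simp [Submodule.factorPow] }
  map {M N} φ :=
    { app := fun n => ModuleCat.ofHom (Submodule.mapQ _ _ φ.hom (by
        rw [← Submodule.map_le_iff_le_comap, Submodule.map_smul'']
        exact Submodule.smul_mono le_rfl le_top))
      naturality := fun n m h => ModuleCat.hom_ext (Submodule.linearMap_qext _ (LinearMap.ext fun y => by
        simp [Submodule.factorPow, Submodule.mapQ_apply])) }
  map_id M := by
    refine NatTrans.ext (funext fun n => ModuleCat.hom_ext (Submodule.linearMap_qext _ (LinearMap.ext fun y => ?_)))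
    simp [Submodule.mapQ_apply]
  map_comp f g := by
    refine NatTrans.ext (funext fun n => ModuleCat.hom_ext (Submodule.linearMap_qext _ (LinearMap.ext fun y => ?_)))
    simp [Submodule.mapQ_apply]

instance : (tower Λ I).Additive where
  map_add {M N φ ψ} := by
    refine NatTrans.ext (funext fun n => ModuleCat.hom_ext (Submodule.linearMap_qext _ (LinearMap.ext fun y => ?_)))
    rfl

instance : (tower Λ I).Linear Λ where
  map_smul {M N} φ a := by
    refine NatTrans.ext (funext fun n => ModuleCat.hom_ext (Submodule.linearMap_qext _ (LinearMap.ext fun y => ?_)))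
    rfl

/-- The completed constant sheaf of a module. -/
noncomputable def Phi : ModuleCat.{u + 1} Λ ⥤ EtModW.ModP Λ X where
  obj M := limit ((tower Λ I).obj M ⋙ cst Λ X)
  map φ := limMap (Functor.whiskerRight ((tower Λ I).map φ) (cst Λ X))
  map_id M := limit.hom_ext fun n => by
    rw [limMap_π, CategoryTheory.Functor.map_id, Functor.whiskerRight_app, NatTrans.id_app,
      CategoryTheory.Functor.map_id, Category.id_comp]
    exact Category.comp_id _
  map_comp f g := limit.hom_ext fun n => by
    rw [limMap_π, Category.assoc, limMap_π, limMap_π_assoc, CategoryTheory.Functor.map_comp,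
      Functor.whiskerRight_app, Functor.whiskerRight_app, Functor.whiskerRight_app, NatTrans.comp_app,
      CategoryTheory.Functor.map_comp]

theorem Phi_map_π {M N : ModuleCat.{u + 1} Λ} (φ : M ⟶ N) (n : ℕ) :
    (Phi Λ X I).map φ ≫ limit.π ((tower Λ I).obj N ⋙ cst Λ X) (op n) =
      limit.π ((tower Λ I).obj M ⋙ cst Λ X) (op n) ≫ (cst Λ X).map (((tower Λ I).map φ).app (op n)) :=
  limMap_π (Functor.whiskerRight ((tower Λ I).map φ) (cst Λ X)) (op n)

instance : (Phi Λ X I).Additive where
  map_add {M N φ ψ} := by
    refine limit.hom_ext fun ⟨n⟩ => ?_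
    refine (Phi_map_π Λ X I (φ + ψ) n).trans ?_
    refine Eq.trans ?_ (Preadditive.add_comp _ _ _ _ _ (limit.π ((tower Λ I).obj N ⋙ cst Λ X) (op n))).symm
    refine Eq.trans ?_ (congrArg₂ (· + ·) (Phi_map_π Λ X I φ n) (Phi_map_π Λ X I ψ n)).symm
    rw [(tower Λ I).map_add, NatTrans.app_add, (cst Λ X).map_add]
    exact Preadditive.comp_add _ _ _ _ _ _

instance : (Phi Λ X I).Linear Λ where
  map_smul {M N} φ a := by
    refine limit.hom_ext fun ⟨n⟩ => ?_
    refine (Phi_map_π Λ X I (a • φ) n).trans ?_
    refine Eq.trans ?_ (Linear.smul_comp _ _ _ a _ (limit.π ((tower Λ I).obj N ⋙ cst Λ X) (op n))).symm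
    refine Eq.trans ?_ (congrArg (a • ·) (Phi_map_π Λ X I φ n)).symm
    rw [(tower Λ I).map_smul, NatTrans.app_smul, (cst Λ X).map_smul]
    exact Linear.comp_smul _ _ _ _ _ _

/-- The canonical map from a constant sheaf to its completion. -/
noncomputable def unitMap : cst Λ X ⟶ Phi Λ X I where
  app M := limit.lift ((tower Λ I).obj M ⋙ cst Λ X)
    { pt := (cst Λ X).obj M
      π := { app := fun n => (cst Λ X).map (ModuleCat.ofHom (Submodule.mkQ _))
             naturality := fun n m h => by
               refine (Category.id_comp _).trans ?_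
               refine Eq.trans ?_ ((cst Λ X).map_comp _ _)
               exact congrArg (cst Λ X).map (by ext x; rfl) } }
  naturality M N φ := by
    refine limit.hom_ext fun ⟨n⟩ => ?_
    refine (Category.assoc _ _ _).trans ((congrArg _ (limit.lift_π _ _)).trans ?_)
    refine Eq.trans ?_ (Category.assoc _ _ _).symm
    refine Eq.trans ?_ (congrArg _ (Phi_map_π Λ X I φ n).symm)
    erw [limit.lift_π_assoc]
    refine ((cst Λ X).map_comp _ _).symm.trans (Eq.trans ?_ ((cst Λ X).map_comp _ _))
    exact congrArg (cst Λ X).map (by ext x; rfl)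

theorem unitMap_π (M : ModuleCat.{u + 1} Λ) (n : ℕ) :
    (unitMap Λ X I).app M ≫ limit.π ((tower Λ I).obj M ⋙ cst Λ X) (op n) =
      (cst Λ X).map (ModuleCat.ofHom (Submodule.mkQ _)) :=
  limit.lift_π _ _

variable {Λ X} (W : X.ProEt) (hW : _root_.ProEtS.IsWC W)

/-- Sections of constant sheaves. -/
noncomputable abbrev csect : ModuleCat.{u + 1} Λ ⥤ ModuleCat.{u + 1} Λ := cst Λ X ⋙ sectFun Λ W

include hW in
theorem csect_surjective {M N : ModuleCat.{u + 1} Λ} (p : M ⟶ N) (hp : Function.Surjective p.hom) :
    Function.Surjective ((csect W).map p).hom :=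
  have : Epi p := (ModuleCat.epi_iff_surjective p).2 hp
  have : Epi ((cst Λ X).map p) := (cst Λ X).map_epi p
  surjective_of_epi_wc ((cst Λ X).map p) W hW

theorem csect_injective {M N : ModuleCat.{u + 1} Λ} (p : M ⟶ N) (hp : Function.Injective p.hom) :
    Function.Injective ((csect W).map p).hom :=
  have : Mono p := (ModuleCat.mono_iff_injective p).2 hp
  have : Mono ((cst Λ X).map p) := (cst Λ X).map_mono p
  (ModuleCat.mono_iff_injective _).1 ((sectFun Λ W).map_mono ((cst Λ X).map p))

include hW in
theorem csect_exact {M N P : ModuleCat.{u + 1} Λ} (f : M ⟶ N) (g : N ⟶ P)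
    (hfg : Function.Exact f.hom g.hom) (x : (csect W).obj N) (hx : ((csect W).map g).hom x = 0) :
    ∃ y, ((csect W).map f).hom y = x := by
  let S : ShortComplex (ModuleCat.{u + 1} Λ) := ShortComplex.mk f g (by ext z; exact hfg.apply_apply_eq_zero z)
  have hS : S.Exact := (ShortComplex.moduleCat_exact_iff S).2 fun z hz => (hfg z).1 hz
  exact exists_lift_wc _ (hS.map (cst Λ X)) W hW x hx

theorem csect_comp {M N P : ModuleCat.{u + 1} Λ} (f : M ⟶ N) (g : N ⟶ P) (x : (csect W).obj M) :
    ((csect W).map g).hom (((csect W).map f).hom x) = ((csect W).map (f ≫ g)).hom x := by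
  rw [(csect W).map_comp]
  rfl

end Groth.Agent.ProEtDCLib
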