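import Groth.Agent.ProEtDCLib.Phi

/-!
# Exactness of completion on finite modules
-/

universe u

open CategoryTheory CategoryTheory.Limits AlgebraicGeometry Opposite

namespace Groth.Agent.ProEtDCLib

open Groth.Agent Groth.Agent.EtModWLib

variable {Λ : Type (u + 1)} [CommRing Λ] {X : Scheme.{u}} {I : Ideal Λ} (W : X.ProEt)

/-- The component of a section of the completion. -/
noncomputable abbrev comp (M : ModuleCat.{u + 1} Λ) (n : ℕ) (y : (sectFun Λ W).obj ((Phi Λ X I).obj M)) :
    (csect W).obj (((tower Λ I).obj M).obj (op n)) :=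
  (sectFun Λ W).map (limit.π ((tower Λ I).obj M ⋙ cst Λ X) (op n)) y

theorem comp_map {M N : ModuleCat.{u + 1} Λ} (φ : M ⟶ N) (n : ℕ)
    (y : (sectFun Λ W).obj ((Phi Λ X I).obj M)) :
    comp W N n ((sectFun Λ W).map ((Phi Λ X I).map φ) y) =
      ((csect W).map (((tower Λ I).map φ).app (op n))).hom (comp W M n y) :=
  congrArg (fun ψ => (sectFun Λ W).map ψ y) (Phi_map_π Λ X I φ n)

theorem phi_sect_ext (M : ModuleCat.{u + 1} Λ) (y y' : (sectFun Λ W).obj ((Phi Λ X I).obj M))
    (h : ∀ n, comp W M n y = comp W M n y') : y = y' :=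
  limit_sect_ext ((tower Λ I).obj M ⋙ cst Λ X) W y y' h

theorem exists_phi_sect (M : ModuleCat.{u + 1} Λ)
    (x : ∀ n : ℕ, (csect W).obj (((tower Λ I).obj M).obj (op n)))
    (hx : ∀ n : ℕ, ((csect W).map (((tower Λ I).obj M).map (homOfLE (Nat.le_succ n)).op)).hom (x (n + 1)) = x n) :
    ∃ y : (sectFun Λ W).obj ((Phi Λ X I).obj M), ∀ n, comp W M n y = x n :=
  exists_limit_sect ((tower Λ I).obj M ⋙ cst Λ X) W x hx

theorem comp_tr (M : ModuleCat.{u + 1} Λ) {n m : ℕ} (h : n ≤ m)
    (y : (sectFun Λ W).obj ((Phi Λ X I).obj M)) :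
    ((csect W).map (((tower Λ I).obj M).map (homOfLE h).op)).hom (comp W M m y) = comp W M n y :=
  limit_sect_tr ((tower Λ I).obj M ⋙ cst Λ X) W h y

theorem csect_eq_zero {M N : ModuleCat.{u + 1} Λ} (f : M ⟶ N) (h : f = 0)
    (x : (csect W).obj M) : ((csect W).map f).hom x = 0 := by
  subst h
  rw [(csect W).map_zero]
  rfl

theorem tower_mk {M N : ModuleCat.{u + 1} Λ} (φ : M ⟶ N) (n : ℕ) (y : M) :
    (((tower Λ I).map φ).app (op n)).hom (Submodule.Quotient.mk y) =
      Submodule.Quotient.mk (φ.hom y) :=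
  by simp [Submodule.mapQ_apply]

theorem tower_tr_mk (M : ModuleCat.{u + 1} Λ) {n m : ℕ} (h : n ≤ m) (y : M) :
    (((tower Λ I).obj M).map (homOfLE h).op).hom (Submodule.Quotient.mk y) = Submodule.Quotient.mk y :=
  by simp [Submodule.factorPow]

section Exact

variable {A B C : ModuleCat.{u + 1} Λ} (f : A ⟶ B) (g : B ⟶ C)

/-- The image of a level of the tower. -/
noncomputable abbrev img (n : ℕ) : ModuleCat.{u + 1} Λ :=
  ModuleCat.of Λ (LinearMap.range (((tower Λ I).map f).app (op n)).hom)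

/-- The projection onto the image. -/
noncomputable abbrev imgQ (n : ℕ) : ((tower Λ I).obj A).obj (op n) ⟶ img (I := I) f n :=
  ModuleCat.ofHom (((tower Λ I).map f).app (op n)).hom.rangeRestrict

/-- The inclusion of the image. -/
noncomputable abbrev imgJ (n : ℕ) : img (I := I) f n ⟶ ((tower Λ I).obj B).obj (op n) :=
  ModuleCat.ofHom (Submodule.subtype _)

theorem imgQ_J (n : ℕ) : imgQ (I := I) f n ≫ imgJ f n = ((tower Λ I).map f).app (op n) := by
  ext x; rfl

variable {f g} (hf : Function.Injective f.hom) (hfg : Function.Exact f.hom g.hom)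
  (hg : Function.Surjective g.hom)

include hg in
theorem tower_surjective (n : ℕ) : Function.Surjective (((tower Λ I).map g).app (op n)).hom := by
  intro x
  obtain ⟨x, rfl⟩ := Submodule.Quotient.mk_surjective _ x
  obtain ⟨y, rfl⟩ := hg x
  exact ⟨Submodule.Quotient.mk y, tower_mk g n y⟩

include hfg hg in
theorem exact_imgJ (n : ℕ) :
    Function.Exact (imgJ (I := I) f n).hom (((tower Λ I).map g).app (op n)).hom := by
  intro x
  obtain ⟨x, rfl⟩ := Submodule.Quotient.mk_surjective _ x
  constructor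
  · intro hx
    rw [tower_mk, Submodule.Quotient.mk_eq_zero, ← LinearMap.range_eq_top.2 hg, LinearMap.range_eq_map,
      ← Submodule.map_smul''] at hx
    obtain ⟨m, hm, hme⟩ := hx
    obtain ⟨a, ha⟩ := (hfg (x - m)).1 (by rw [map_sub, hme, sub_self])
    refine ⟨⟨_, Submodule.Quotient.mk a, rfl⟩, ?_⟩
    show (((tower Λ I).map f).app (op n)).hom (Submodule.Quotient.mk a) = _
    rw [tower_mk, ha, Submodule.Quotient.mk_sub, (Submodule.Quotient.mk_eq_zero _).2 hm, sub_zero]
  · rintro ⟨⟨_, a, rfl⟩, ha⟩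
    obtain ⟨a, rfl⟩ := Submodule.Quotient.mk_surjective _ a
    rw [← ha]
    show (((tower Λ I).map g).app (op n)).hom ((((tower Λ I).map f).app (op n)).hom (Submodule.Quotient.mk a)) = 0
    rw [tower_mk, tower_mk, hfg.apply_apply_eq_zero]
    rfl

include hf in
/-- Artin-Rees: a section of the tower map `imgQ` up to translation. -/
theorem exists_theta [IsNoetherianRing Λ] [Module.Finite Λ B] :
    ∃ k : ℕ, ∀ n : ℕ, ∃ θ : img (I := I) f (n + k) ⟶ ((tower Λ I).obj A).obj (op n),
      imgQ f (n + k) ≫ θ = ((tower Λ I).obj A).map (homOfLE (Nat.le_add_right n k)).op := by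
  obtain ⟨k, hk⟩ := I.exists_pow_inf_eq_pow_smul (LinearMap.range f.hom)
  refine ⟨k, fun n => ?_⟩
  let tr := (((tower Λ I).obj A).map (homOfLE (Nat.le_add_right n k)).op).hom
  have hker : LinearMap.ker (((tower Λ I).map f).app (op (n + k))).hom.rangeRestrict ≤ LinearMap.ker tr := by
    intro x hx
    obtain ⟨x, rfl⟩ := Submodule.Quotient.mk_surjective _ x
    rw [LinearMap.ker_rangeRestrict, LinearMap.mem_ker, tower_mk, Submodule.Quotient.mk_eq_zero] at hx
    show tr (Submodule.Quotient.mk x) = 0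
    rw [tower_tr_mk, Submodule.Quotient.mk_eq_zero]
    have h1 : f.hom x ∈ I ^ (n + k) • (⊤ : Submodule Λ B) ⊓ LinearMap.range f.hom := ⟨hx, ⟨x, rfl⟩⟩
    rw [hk (n + k) (Nat.le_add_left k n), Nat.add_sub_cancel] at h1
    have h2 := Submodule.smul_mono le_rfl inf_le_right h1
    rw [LinearMap.range_eq_map, ← Submodule.map_smul''] at h2
    obtain ⟨y, hy, hye⟩ := h2
    exact hf hye ▸ hy
  let e := (((tower Λ I).map f).app (op (n + k))).hom.rangeRestrict.quotKerEquivOfSurjective
    (LinearMap.surjective_rangeRestrict _)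
  refine ⟨ModuleCat.ofHom ((Submodule.liftQ _ tr hker).comp e.symm.toLinearMap), ?_⟩
  refine ModuleCat.hom_ext (LinearMap.ext fun x => ?_)
  exact (congrArg (Submodule.liftQ _ tr hker) (e.symm_apply_apply (Submodule.Quotient.mk x))).trans
    (Submodule.liftQ_apply _ _ _)

/-- Transition between images. -/
noncomputable def imgT {n m : ℕ} (h : n ≤ m) : img (I := I) f m ⟶ img (I := I) f n :=
  ModuleCat.ofHom (((((tower Λ I).obj B).map (homOfLE h).op).hom.comp (Submodule.subtype _)).codRestrict _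
    (by
      rintro ⟨_, a, rfl⟩
      exact ⟨(((tower Λ I).obj A).map (homOfLE h).op).hom a,
        congrArg (fun φ : ((tower Λ I).obj A).obj (op m) ⟶ _ => φ.hom a)
          (((tower Λ I).map f).naturality (homOfLE h).op)⟩))

theorem imgT_J {n m : ℕ} (h : n ≤ m) :
    imgT h ≫ imgJ (I := I) f n = imgJ f m ≫ ((tower Λ I).obj B).map (homOfLE h).op := by
  ext x; rfl

theorem imgQ_T {n m : ℕ} (h : n ≤ m) :
    imgQ (I := I) f m ≫ imgT h = ((tower Λ I).obj A).map (homOfLE h).op ≫ imgQ f n := by
  refine ModuleCat.hom_ext (LinearMap.ext fun a => Subtype.ext ?_)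
  exact (congrArg (fun φ : ((tower Λ I).obj A).obj (op m) ⟶ _ => φ.hom a)
    (((tower Λ I).map f).naturality (homOfLE h).op)).symm

theorem surjective_imgT {n : ℕ} : Function.Surjective (imgT (I := I) (f := f) (Nat.le_succ n)).hom := by
  rintro ⟨_, a, rfl⟩
  obtain ⟨a, rfl⟩ := Submodule.Quotient.mk_surjective _ a
  refine ⟨⟨_, Submodule.Quotient.mk a, rfl⟩, Subtype.ext ?_⟩
  show (((tower Λ I).obj B).map (homOfLE (Nat.le_succ n)).op).hom
      ((((tower Λ I).map f).app (op (n + 1))).hom (Submodule.Quotient.mk a)) =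
    (((tower Λ I).map f).app (op n)).hom (Submodule.Quotient.mk a)
  rw [tower_mk, tower_mk]
  exact tower_tr_mk B _ _

variable (hW : _root_.ProEtS.IsWC W)

include hf in
theorem phi_injective [IsNoetherianRing Λ] [Module.Finite Λ B]
    (y : (sectFun Λ W).obj ((Phi Λ X I).obj A)) (hy : (sectFun Λ W).map ((Phi Λ X I).map f) y = 0) :
    y = 0 := by
  obtain ⟨k, hk⟩ := exists_theta (I := I) hf
  refine phi_sect_ext W A y 0 fun n => ?_
  obtain ⟨θ, hθ⟩ := hk n
  have h0 : ((csect W).map (imgQ f (n + k))).hom (comp W A (n + k) y) = 0 := by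
    refine csect_injective W (imgJ f (n + k)) Subtype.val_injective ?_
    rw [csect_comp, imgQ_J, ← comp_map, hy, map_zero]
    exact map_zero _
  rw [← comp_tr W A (Nat.le_add_right n k) y, ← hθ, ← csect_comp, h0, map_zero]
  exact (map_zero _).symm

include hW hf hfg hg in
theorem phi_exact [IsNoetherianRing Λ] [Module.Finite Λ B]
    (y : (sectFun Λ W).obj ((Phi Λ X I).obj B)) (hy : (sectFun Λ W).map ((Phi Λ X I).map g) y = 0) :
    ∃ x, (sectFun Λ W).map ((Phi Λ X I).map f) x = y := by
  obtain ⟨k, hk⟩ := exists_theta (I := I) hf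
  choose θ hθ using hk
  have hz : ∀ m, ∃ z, ((csect W).map (imgJ (I := I) f m)).hom z = comp W B m y := fun m =>
    csect_exact W hW _ _ (exact_imgJ hfg hg m) _ (by rw [← comp_map, hy]; exact map_zero _)
  choose z hz using hz
  have hzT : ∀ {n m : ℕ} (h : n ≤ m), ((csect W).map (imgT h)).hom (z m) = z n := fun {n m} h => by
    refine csect_injective W (imgJ f n) Subtype.val_injective ?_
    rw [csect_comp, imgT_J, ← csect_comp, hz, hz, comp_tr]
  have hθn : ∀ n, θ (n + 1) ≫ ((tower Λ I).obj A).map (homOfLE (Nat.le_succ n)).op =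
      imgT (Nat.add_le_add_right (Nat.le_succ n) k) ≫ θ n := fun n => by
    have : Epi (imgQ (I := I) f (n + 1 + k)) :=
      (ModuleCat.epi_iff_surjective _).2 (LinearMap.surjective_rangeRestrict _)
    rw [← cancel_epi (imgQ (I := I) f (n + 1 + k)), ← Category.assoc, hθ, ← Category.assoc, imgQ_T,
      Category.assoc, hθ, ← CategoryTheory.Functor.map_comp, ← CategoryTheory.Functor.map_comp]
  obtain ⟨x, hx⟩ := exists_phi_sect (I := I) W A (fun n => ((csect W).map (θ n)).hom (z (n + k))) fun n => by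
    rw [csect_comp, hθn, ← csect_comp, hzT]
  refine ⟨x, phi_sect_ext W B _ _ fun n => ?_⟩
  rw [comp_map, hx, csect_comp]
  have e : θ n ≫ ((tower Λ I).map f).app (op n) =
      imgJ f (n + k) ≫ ((tower Λ I).obj B).map (homOfLE (Nat.le_add_right n k)).op := by
    have : Epi (imgQ (I := I) f (n + k)) :=
      (ModuleCat.epi_iff_surjective _).2 (LinearMap.surjective_rangeRestrict _)
    rw [← cancel_epi (imgQ (I := I) f (n + k)), ← Category.assoc, hθ, ← Category.assoc, imgQ_J]
    exact ((tower Λ I).map f).naturality _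
  rw [e, ← csect_comp, hz, comp_tr]

include hW hfg hg in
theorem phi_surjective (w : (sectFun Λ W).obj ((Phi Λ X I).obj C)) :
    ∃ y, (sectFun Λ W).map ((Phi Λ X I).map g) y = w := by
  let P := fun n => ((csect W).map (((tower Λ I).map g).app (op n))).hom
  let t := fun n => ((csect W).map (((tower Λ I).obj B).map (homOfLE (Nat.le_succ n)).op)).hom
  have step : ∀ n (y : { y // P n y = comp W C n w }),
      ∃ y' : { y' // P (n + 1) y' = comp W C (n + 1) w }, t n y'.1 = y.1 := fun n ⟨y, hy⟩ => by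
    obtain ⟨y', hy'⟩ := csect_surjective W hW _ (tower_surjective (I := I) hg (n + 1)) (comp W C (n + 1) w)
    have hd : P n (t n y' - y) = 0 := by
      rw [map_sub, sub_eq_zero, hy, ← comp_tr W C (Nat.le_succ n) w, ← hy']
      simp only [P, t]
      rw [csect_comp, csect_comp]
      exact congrArg (fun φ => ((csect W).map φ).hom y') (((tower Λ I).map g).naturality (homOfLE (Nat.le_succ n)).op)
    obtain ⟨z, hz⟩ := csect_exact W hW _ _ (exact_imgJ (I := I) hfg hg n) _ hd
    obtain ⟨z', rfl⟩ := csect_surjective W hW _ (surjective_imgT (I := I) (f := f) (n := n)) z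
    refine ⟨⟨y' - ((csect W).map (imgJ f (n + 1))).hom z', ?_⟩, ?_⟩
    · rw [map_sub]
      simp only [P]
      have h0 : imgJ (I := I) f (n + 1) ≫ ((tower Λ I).map g).app (op (n + 1)) = 0 :=
        ModuleCat.hom_ext (LinearMap.ext fun x => (exact_imgJ (I := I) hfg hg (n + 1) _).2 ⟨x, rfl⟩)
      rw [hy', csect_comp, csect_eq_zero W _ h0, sub_zero]
    · show t n (y' - _) = y
      rw [map_sub]
      have hz2 : t n (((csect W).map (imgJ f (n + 1))).hom z') = t n y' - y := by
        rw [← hz]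
        simp only [t]
        rw [csect_comp, csect_comp, imgT_J]
      rw [hz2, sub_sub_cancel]
  choose next hnext using step
  obtain ⟨y₀, hy₀⟩ := csect_surjective W hW _ (tower_surjective (I := I) hg 0) (comp W C 0 w)
  let seq : ∀ n, { y // P n y = comp W C n w } := fun n => Nat.rec ⟨y₀, hy₀⟩ next n
  obtain ⟨y, hy⟩ := exists_phi_sect (I := I) W B (fun n => (seq n).1) fun n => hnext n (seq n)
  refine ⟨y, phi_sect_ext W C _ _ fun n => ?_⟩
  rw [comp_map, hy]
  exact (seq n).2

end Exact

variable (X I) in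
/-- Completion is exact on finite modules. -/
theorem shortExact_Phi [IsNoetherianRing Λ] (S : ShortComplex (ModuleCat.{u + 1} Λ)) (hS : S.ShortExact)
    (hfin : Module.Finite Λ S.X₂) : (S.map (Phi Λ X I)).ShortExact := by
  have := hfin
  have hf : Function.Injective S.f.hom := hS.moduleCat_injective_f
  have hg : Function.Surjective S.g.hom := hS.moduleCat_surjective_g
  have hfg : Function.Exact S.f.hom S.g.hom :=
    LinearMap.exact_iff.2 hS.exact.moduleCat_range_eq_ker.symm
  let α := (Phi Λ X I).map S.f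
  let β := (Phi Λ X I).map S.g
  have hm : Mono α := ⟨fun {Z} a b hab => hom_ext_wc fun V hV s => sub_eq_zero.1
    (phi_injective V hf _ (by
      rw [map_sub, sub_eq_zero]
      exact congrArg (fun k => k.hom.app (op V) s) hab))⟩
  have he : Epi β := epi_of_wc β fun V hV w => phi_surjective V hfg hg hV w
  refine { exact := ?_, mono_f := hm, epi_g := he }
  have w : α ≫ β = 0 := (S.map (Phi Λ X I)).zero
  rw [ShortComplex.exact_iff_epi_kernel_lift]
  refine epi_of_wc _ fun V hV s => ?_
  obtain ⟨x, hx⟩ := phi_exact V hf hfg hg hV ((sectFun Λ V).map (kernel.ι β) s)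
    ((congrArg (fun k => k.hom.app (op V) s) (kernel.condition β)).trans rfl)
  refine ⟨x, ?_⟩
  apply (ModuleCat.mono_iff_injective ((sectFun Λ V).map (kernel.ι β))).1
    (inferInstanceAs (Mono ((sectFun Λ V).map (kernel.ι β))))
  refine Eq.trans ?_ hx
  exact congrArg (fun k => k.hom.app (op V) x) (kernel.lift_ι β α w)

end Groth.Agent.ProEtDCLib
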