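import Groth.Prelude.Def_ProEtDC
import Groth.Agent.EtModWLib.WCSect
import Groth.Agent.EtModWLib.LimitEpi
import Groth.Agent.DRing.Tel
import Groth.Agent.DRing.TelComplex
import Mathlib.CategoryTheory.Abelian.Exact
import Mathlib.CategoryTheory.Adjunction.Evaluation
import Mathlib.CategoryTheory.Preadditive.Injective.Preserves
import Mathlib.Algebra.Category.ModuleCat.Injective
import Mathlib.CategoryTheory.Abelian.GrothendieckAxioms.Colim
import Mathlib.Algebra.Category.ModuleCat.AB

/-!
# Sections of sheaves of modules on the pro-etale site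
-/

universe u

open CategoryTheory CategoryTheory.Limits AlgebraicGeometry Opposite

namespace Groth.Agent.ProEtDCLib

open Groth.Agent Groth.Agent.EtModWLib

variable {Λ : Type (u + 1)} [CommRing Λ] {X : Scheme.{u}}

instance additive_sectFun (U : X.ProEt) : (sectFun Λ U).Additive where
  map_add := rfl

theorem preservesHomology_sectFun (W : X.ProEt) (hW : _root_.ProEtS.IsWC W) :
    (sectFun Λ W).PreservesHomology :=
  have : (sectFun Λ W).PreservesEpimorphisms :=
    ⟨fun g _ => (ModuleCat.epi_iff_surjective _).2 (surjective_of_epi_wc g W hW)⟩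
  Functor.preservesHomology_of_preservesEpis_and_kernels _

/-- A morphism which is bijective on weakly contractible objects is an isomorphism. -/
theorem isIso_of_wc {F G : EtModW.ModP Λ X} (a : F ⟶ G)
    (h : ∀ (V : X.ProEt), _root_.ProEtS.IsWC V → Function.Bijective (a.hom.app (op V))) : IsIso a := by
  have : Epi a := epi_of_wc a fun V hV => (h V hV).2
  have : Mono a := ⟨fun {Z} b c hbc => hom_ext_wc fun V hV s => (h V hV).1
    (congrArg (fun k => k.hom.app (op V) s) hbc)⟩
  exact isIso_of_mono_of_epi a

theorem isZero_of_wc {F : EtModW.ModP Λ X}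
    (h : ∀ (V : X.ProEt), _root_.ProEtS.IsWC V → Subsingleton (F.obj.obj (op V))) : IsZero F := by
  rw [IsZero.iff_id_eq_zero]
  exact hom_ext_wc fun V hV s => (h V hV).elim _ _

/-- Sections of an injective sheaf form an injective module. -/
theorem injective_sectFun (U : X.ProEt) (J : EtModW.ModP Λ X) [Injective J] :
    Injective ((sectFun Λ U).obj J) := by
  let L := evaluationLeftAdjoint (ModuleCat.{u + 1} Λ) (op U) ⋙
    presheafToSheaf (Scheme.ProEt.topology X) (ModuleCat.{u + 1} Λ)
  let adj : L ⊣ sectFun Λ U := (evaluationAdjunctionRight (ModuleCat.{u + 1} Λ) (op U)).comp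
    (sheafificationAdjunction (Scheme.ProEt.topology X) (ModuleCat.{u + 1} Λ))
  have : L.PreservesMonomorphisms := by
    have : (evaluationLeftAdjoint (ModuleCat.{u + 1} Λ) (op U) :
        ModuleCat.{u + 1} Λ ⥤ X.ProEtᵒᵖ ⥤ _).PreservesMonomorphisms := ⟨fun {A B} g _ => by
      have h : ∀ V, Mono (((evaluationLeftAdjoint (ModuleCat.{u + 1} Λ) (op U)).map g).app V) := fun V => by
        show Mono (Sigma.desc fun h => g ≫ Sigma.ι (fun _ : op U ⟶ V => B) h)
        have : HasCoproducts.{u + 1} (ModuleCat.{u + 1} Λ) := inferInstance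
        have := AB4OfSize_shrink.{u, u + 1} (ModuleCat.{u + 1} Λ)
        let η : Discrete.functor (fun _ : op U ⟶ V => A) ⟶ Discrete.functor fun _ => B :=
          Discrete.natTrans fun _ => g
        have : ∀ d, Mono (η.app d) := fun _ => ‹Mono g›
        have : Mono η := NatTrans.mono_of_mono_app η
        have : Mono (Limits.Sigma.map fun _ : op U ⟶ V => g) :=
          colim.map_mono' η (colimit.isColimit _) (colimit.isColimit _) _
            fun j => colimit.ι_desc _ _
        convert this using 1
        exact Sigma.hom_ext _ _ fun i => by simp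
      exact NatTrans.mono_of_mono_app _⟩
    infer_instance
  exact Injective.injective_of_adjoint adj J

/-- The telescope is surjective on an injective module. -/
theorem surjective_D (f : Λ) (M : ModuleCat.{u + 1} Λ) [Injective M] :
    Function.Surjective (DRing.Tel.D f M) := by
  intro y
  have : Mono (ModuleCat.ofHom (DRing.TelComplex.δF f)) :=
    (ModuleCat.mono_iff_injective _).2 (DRing.TelComplex.δF_injective f)
  let g : ModuleCat.of Λ (ℕ →₀ Λ) ⟶ M := ModuleCat.ofHom (Finsupp.linearCombination Λ y)
  let h := Injective.factorThru g (ModuleCat.ofHom (DRing.TelComplex.δF f))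
  refine ⟨fun k => h (Finsupp.single k 1), funext fun k => ?_⟩
  have hk := congrArg (fun φ => φ (Finsupp.single k 1))
    (Injective.comp_factorThru g (ModuleCat.ofHom (DRing.TelComplex.δF f)))
  rw [DRing.Tel.D_apply, ← map_smul, ← map_sub, ← DRing.TelComplex.δF_single f k]
  refine hk.trans ?_
  show Finsupp.linearCombination Λ y (Finsupp.single k 1) = y k
  rw [Finsupp.linearCombination_single, one_smul]

theorem surjective_D_sect (f : Λ) (U : X.ProEt) (J : EtModW.ModP Λ X) [Injective J] :
    Function.Surjective (DRing.Tel.D f ((sectFun Λ U).obj J)) :=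
  have := injective_sectFun U J
  surjective_D f _

end Groth.Agent.ProEtDCLib
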